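/-
The Frattini condition for a subsystem from extensions of corrected automorphisms.
-/
import Cfsg.Agent.Lib.Fusion.Invariant

set_option autoImplicit false

namespace Cfsg.Agent.Lib.Fusion

open Cfsg Cfsg.FusionSystem

variable {Ω : Type*} [Group Ω] {S T : Subgroup Ω} {F : FusionSystem S} {E : FusionSystem T}
  {p : ℕ}

/-- The Frattini condition follows when every automorphism of a fully normalized subgroup can be
corrected by the subsystem to extend. -/
theorem exists_frattini_of_extend [Fact p.Prime] [Finite S] (hS : IsPGroup p S)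
    (hF : F.IsSaturated p) (hE : E.IsSubsystemOf F) (hT : F.StronglyClosed T)
    (hact : ActInvariant E F)
    (hfix : ∀ Q : Subgroup Ω, Q ≤ T → Q ≠ T → F.IsFullyNormalized Q → ∀ β ∈ F.autGroup Q,
      ∃ o ∈ E.autGroup Q, ∃ R : Subgroup Ω, Q ≤ R ∧ Q ≠ R ∧ R ≤ T ∧ ∃ ψ ∈ F.Hom R,
        ∀ (x : Q) (h : (x : Ω) ∈ R), ψ ⟨x, h⟩ = ((o * β) x : Ω))
    {P : Subgroup Ω} (hP : P ≤ T) {φ : P →* Ω} (hφ : φ ∈ F.Hom P) :
    ∃ a ∈ F.autGroup T, ∃ φ₀ ∈ E.Hom P, ∀ (x : P) (hx : φ₀ x ∈ T),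
      φ x = (a ⟨φ₀ x, hx⟩ : Ω) := by
  have hTS := hT.1
  haveI : Finite T := finite_of_le hTS
  set D := decompSystem F E hTS hact with hD
  suffices key : ∀ n (P : Subgroup Ω) (φ : P →* Ω), Nat.card T - Nat.card P ≤ n → P ≤ T →
      φ ∈ F.Hom P → φ ∈ D.Hom P from (key _ P φ le_rfl hP hφ).2.2.2
  clear hφ φ hP P
  intro n
  induction n using Nat.strong_induction_on with
  | _ n ih =>
    intro P φ hn hPT hφ
    haveI : Finite P := finite_of_le (hPT.trans hTS)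
    by_cases hPe : P = T
    · subst hPe
      obtain ⟨a, ha, hax⟩ := exists_aut_of_hom hφ (hT.2 P le_rfl φ hφ)
      exact ⟨hφ, le_rfl, hT.2 P le_rfl φ hφ, a, ha, _, subtype_mem le_rfl,
        fun x hx => (hax x).symm⟩
    have hPS := hPT.trans hTS
    obtain ⟨Q, hPQ, hQ⟩ := exists_isFullyNormalized_conj F hPS
    have hQT : Q ≤ T := by
      obtain ⟨θ, hθ, rfl⟩ := hPQ
      rintro _ ⟨x, rfl⟩
      exact hT.2 P hPT θ hθ x
    haveI : Finite Q := finite_of_le hQ.1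
    haveI := finite_mulAut hQ.1
    -- maps of the normalizers in `T` are in `D`
    have hbig : ∀ R : Subgroup Ω, R ≤ T → Nat.card R = Nat.card P → R ≠ T →
        ∀ ψ : normalizerIn T R →* Ω, ψ ∈ F.Hom (normalizerIn T R) → ψ ∈ D.Hom _ := by
      intro R hR hc hne ψ hψ
      have h1 := Fusion87.card_lt_normalizerIn (hS.to_le hTS) hR hne
      have h2 : Nat.card (normalizerIn T R) ≤ Nat.card T := Subgroup.card_le_of_le inf_le_left
      exact ih _ (by omega) _ ψ le_rfl inf_le_left hψ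
    have hne : ∀ R : Subgroup Ω, R ≤ T → Nat.card R = Nat.card P → R ≠ T := fun R _ hc e =>
      hPe (Subgroup.eq_of_le_of_card_ge hPT (by rw [← hc, e]))
    -- automorphisms of `Q`
    have haut : ∀ β ∈ F.autGroup Q, autHom β ∈ D.Hom Q := by
      intro β hβ
      obtain ⟨o, ho, R, hQR, hQRne, hRT, ψ, hψ, hag⟩ :=
        hfix Q hQT (hne Q hQT (isConj_card hPQ)) hQ β hβ
      have hcR : Nat.card P < Nat.card R := by
        haveI : Finite R := finite_of_le (hRT.trans hTS)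
        rw [← isConj_card hPQ]
        exact lt_of_le_of_ne (Subgroup.card_le_of_le hQR)
          fun e => hQRne (Subgroup.eq_of_le_of_card_ge hQR e.ge)
      have hRc : Nat.card R ≤ Nat.card T := Subgroup.card_le_of_le hRT
      have hψD : ψ ∈ D.Hom R := ih _ (by omega) R ψ le_rfl hRT hψ
      have h1 : autHom (o * β) ∈ D.Hom Q :=
        mem_of_restrict hψD hQR fun x => (hag x (hQR x.2)).symm
      have ho' := (mem_autGroup hQT).1 (Subgroup.inv_mem _ ho)
      have h2 : autHom (o⁻¹) ∈ D.Hom Q :=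
        ⟨autGroup_hom_mem hQ.1 (autGroup_mono hE Q (Subgroup.inv_mem _ ho)), hQT, val_mem ho', 1,
          Subgroup.one_mem _, _, ho', fun x hx => rfl⟩
      refine comp_of_apply h1 h2 fun x => ⟨((o * β) x).2, ?_⟩
      show (β x : Ω) = (o⁻¹ (o (β x)) : Ω)
      rw [MulAut.inv_apply_self]
    -- transport to `Q`
    have hside : ∀ R : Subgroup Ω, R ≤ T → F.IsConj R Q →
        ∃ θ ∈ D.Hom R, θ.range = Q := by
      intro R hR hRQ
      obtain ⟨ψ, hψ, -, himg⟩ := exists_map_to_fullyNormalized hS hF hQ hRQ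
      have hle : normalizerIn T R ≤ normalizerIn S R := inf_le_inf_right _ hTS
      have hcard : Nat.card R = Nat.card P := by rw [← isConj_card hPQ, isConj_card hRQ]
      have h1 := hbig R hR hcard (hne R hR hcard) _ (restrict_mem hψ hle)
      refine ⟨_, restrict_mem h1 (le_normalizerIn hR), ?_⟩
      rw [← himg, ← range_restrict ψ (le_normalizerIn (hR.trans hTS))]
      rfl
    obtain ⟨θ₁, hθ₁, hr₁⟩ := hside P hPT hPQ
    have hφT : φ.range ≤ T := by rintro _ ⟨x, rfl⟩; exact hT.2 P hPT φ hφ x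
    obtain ⟨θ₂, hθ₂, hr₂⟩ := hside φ.range hφT
      (isConj_trans (isConj_symm (isConj_range hφ)) hPQ)
    obtain ⟨τ, hτ, hτr, hτx, -⟩ := exists_inverse hθ₁ hr₁
    obtain ⟨τ₂, hτ₂, -, hτ₂x, -⟩ := exists_inverse hθ₂ hr₂
    obtain ⟨σ, hσ, hσx⟩ := exists_comp hφ hθ₂.1 fun x => ⟨x, rfl⟩
    obtain ⟨c, hc, hcx⟩ := exists_comp hτ.1 hσ fun y => hτr.le ⟨y, rfl⟩
    obtain ⟨α, hα, hαx⟩ := exists_aut_of_hom hc fun y => by
      rw [hcx, hσx]
      exact hr₂.le ⟨_, rfl⟩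
    obtain ⟨μ, hμ, hμx⟩ := exists_comp hθ₁ (haut α hα) fun x => hr₁.le ⟨x, rfl⟩
    refine comp_of_apply hμ hτ₂ fun x => ?_
    have hμσ : μ x = σ x := by
      rw [hμx, autHom_apply, hαx, hcx]
      exact congrArg σ (Subtype.ext (hτx x (hr₁.le ⟨x, rfl⟩)))
    have hx2 : θ₂ ⟨φ x, x, rfl⟩ ∈ Q := hr₂.le ⟨_, rfl⟩
    refine ⟨by rw [hμσ, hσx]; exact hx2, ?_⟩
    simp only [hμσ, hσx]
    exact (hτ₂x ⟨φ x, x, rfl⟩ hx2).symm

end Cfsg.Agent.Lib.Fusion
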