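/-
The wedge of two normal subsystems: the system over `T₁ ∩ T₂` generated by the common
automorphisms of order prime to `p` of its centric subgroups.  Its invariance and the normal
subgroup `baseAut` of the automorphism group of a fully normalized subgroup.
-/
import Cfsg.Agent.Lib.Fusion.CommonAuto
import Cfsg.Agent.Lib.Fusion.CapSystem
import Cfsg.Agent.Lib.Fusion.Solvable
import Cfsg.Agent.Lib.Fusion.GoodLift
import Cfsg.Agent.Lib.Fusion.PrimeIndex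
import Cfsg.Agent.Lib.Fusion.Wedge.Frattini
import Cfsg.Agent.Lib.Transfer.PResidual

set_option autoImplicit false
set_option linter.style.haveILetI false

namespace Cfsg.Agent.Lib.Fusion.Wedge

open Cfsg Cfsg.FusionSystem

universe u

variable {Ω : Type u} [Group Ω] {S T T₁ T₂ : Subgroup Ω} {F : FusionSystem S}
  {E : FusionSystem T} {E₁ : FusionSystem T₁} {E₂ : FusionSystem T₂} {p : ℕ}

/-- A strongly invariant system carries its automorphisms along the maps of `F`. -/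
theorem congr_mem_autGroup_of_stronglyInvariant (hstr : StronglyInvariant E F)
    {P Q : Subgroup Ω} (e : P ≃* Q) (he : Q.subtype.comp e.toMonoidHom ∈ F.Hom P) (hPT : P ≤ T)
    {a : MulAut P} (ha : a ∈ E.autGroup P) : MulAut.congr e a ∈ E.autGroup Q := by
  obtain ⟨χ, hχ, hχx⟩ := hstr P P le_rfl hPT (autHom a) (autGroup_hom_mem hPT ha)
    (fun x => (a x).2) (Q.subtype.comp e.toMonoidHom) he
  have hQ : Q ≤ imgSub (Q.subtype.comp e.toMonoidHom) P := by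
    intro y hy
    obtain ⟨x, hx⟩ := e.surjective ⟨y, hy⟩
    exact mem_imgSub.2 ⟨x, x.2, congrArg Subtype.val hx⟩
  refine (mem_autGroup (hQ.trans (src_le hχ))).2 (mem_of_restrict hχ hQ fun y => ?_)
  obtain ⟨x, rfl⟩ := e.surjective y
  refine Eq.trans ?_ ((hχx x (hQ (e x).2)).symm.trans (congrArg χ (Subtype.ext rfl)))
  show (e (a (e.symm (e x))) : Ω) = _
  rw [e.symm_apply_apply]
  rfl

/-- An element lies in a subgroup as soon as its parts of `p`-power order and of order prime to `p`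
do. -/
theorem mem_of_parts {G : Type*} [Group G] [Finite G] [Fact p.Prime] {L : Subgroup G} {g : G}
    (hc : ∀ h ∈ Subgroup.zpowers g, (orderOf h).Coprime p → h ∈ L)
    (hp : ∀ h ∈ Subgroup.zpowers g, (∃ k, h ^ p ^ k = 1) → h ∈ L) : g ∈ L := by
  obtain ⟨k, hk⟩ := Transfer.exists_pow_coprime (p := p) g
  set m := orderOf (g ^ p ^ k) with hm
  have h1 : g ^ p ^ k ∈ L := hc _ (pow_mem (Subgroup.mem_zpowers g) _) hk
  have h2 : g ^ m ∈ L := hp _ (pow_mem (Subgroup.mem_zpowers g) _) ⟨k, by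
    rw [← pow_mul, mul_comm, pow_mul, hm, pow_orderOf_eq_one]⟩
  have h3 := Nat.gcd_eq_gcd_ab m (p ^ k)
  rw [(Nat.Coprime.pow_right k hk).gcd_eq_one] at h3
  have h4 : g = (g ^ m) ^ m.gcdA (p ^ k) * (g ^ p ^ k) ^ m.gcdB (p ^ k) := by
    rw [← zpow_natCast, ← zpow_natCast, ← zpow_mul, ← zpow_mul, ← zpow_add, ← h3, Nat.cast_one,
      zpow_one]
  rw [h4]
  exact mul_mem (Subgroup.zpow_mem _ h2 _) (Subgroup.zpow_mem _ h1 _)

/-! ### Definitions -/

/-- The maps of both systems between subgroups of `T₁ ∩ T₂`. -/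
def bothSystem (E₁ : FusionSystem T₁) (E₂ : FusionSystem T₂) : FusionSystem (T₁ ⊓ T₂) :=
  interSystem (capSystem E₁ inf_le_left) (capSystem E₂ inf_le_right)

/-- `D` contains the common automorphisms of order prime to `p` of the centric subgroups. -/
def WedgeGood (F : FusionSystem S) (E₁ : FusionSystem T₁) (E₂ : FusionSystem T₂) (p : ℕ)
    (D : FusionSystem (T₁ ⊓ T₂)) : Prop :=
  ∀ P : Subgroup Ω, TCentric F (T₁ ⊓ T₂) P → ∀ a ∈ commonAut E₁ E₂ P,
    (orderOf a).Coprime p → autHom a ∈ D.Hom P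

/-- The system generated by the common automorphisms of order prime to `p`. -/
def wedgeSystem (F : FusionSystem S) (E₁ : FusionSystem T₁) (E₂ : FusionSystem T₂) (p : ℕ) :
    FusionSystem (T₁ ⊓ T₂) where
  Hom P := {φ | φ ∈ (bothSystem E₁ E₂).Hom P ∧ ∀ D, WedgeGood F E₁ E₂ p D → φ ∈ D.Hom P}
  le_of_mem h := (bothSystem E₁ E₂).le_of_mem h.1
  injective_of_mem h := (bothSystem E₁ E₂).injective_of_mem h.1
  conj_mem hP hg := ⟨(bothSystem E₁ E₂).conj_mem hP hg, fun D _ => D.conj_mem hP hg⟩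
  comp_mem hφ hψ h := ⟨(bothSystem E₁ E₂).comp_mem hφ.1 hψ.1 h,
    fun D hD => D.comp_mem (hφ.2 D hD) (hψ.2 D hD) h⟩
  inv_mem hφ := ⟨_, ⟨rangeInv_mem hφ.1, fun D hD => rangeInv_mem (hφ.2 D hD)⟩,
    fun x => rangeInv_apply _ _ x _⟩

theorem autHom_mem_bothSystem {P : Subgroup Ω} (hP : P ≤ T₁ ⊓ T₂) {a : MulAut P}
    (ha : a ∈ commonAut E₁ E₂ P) : autHom a ∈ (bothSystem E₁ E₂).Hom P :=
  ⟨⟨autGroup_hom_mem (hP.trans inf_le_left) ha.1, hP, fun x => hP (a x).2⟩,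
    ⟨autGroup_hom_mem (hP.trans inf_le_right) ha.2, hP, fun x => hP (a x).2⟩⟩

theorem wedgeSystem_le_left : (wedgeSystem F E₁ E₂ p).IsSubsystemOf E₁ := fun _ _ h => h.1.1.1

theorem wedgeSystem_le_right : (wedgeSystem F E₁ E₂ p).IsSubsystemOf E₂ := fun _ _ h => h.1.2.1

theorem autGroup_wedge_le {P : Subgroup Ω} :
    (wedgeSystem F E₁ E₂ p).autGroup P ≤ commonAut E₁ E₂ P :=
  le_inf (autGroup_mono wedgeSystem_le_left P) (autGroup_mono wedgeSystem_le_right P)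

theorem autHom_mem_wedge {P : Subgroup Ω} (hP : TCentric F (T₁ ⊓ T₂) P) {a : MulAut P}
    (ha : a ∈ commonAut E₁ E₂ P) (hco : (orderOf a).Coprime p) :
    autHom a ∈ (wedgeSystem F E₁ E₂ p).Hom P :=
  ⟨autHom_mem_bothSystem hP.1 ha, fun _ hD => hD P hP a ha hco⟩

/-! ### `O^p` of the common automorphisms -/

/-- `O^p` of the common automorphism group, as automorphisms. -/
def residualAut (E₁ : FusionSystem T₁) (E₂ : FusionSystem T₂) (p : ℕ) (Q : Subgroup Ω) :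
    Subgroup (MulAut Q) :=
  (pResidual p (commonAut E₁ E₂ Q)).map (commonAut E₁ E₂ Q).subtype

/-- `Aut_{T₁ ∩ T₂}(Q)` times `O^p` of the common automorphism group. -/
def baseAut (E₁ : FusionSystem T₁) (E₂ : FusionSystem T₂) (p : ℕ) (Q : Subgroup Ω) :
    Subgroup (MulAut Q) :=
  autInducedBy (T₁ ⊓ T₂) Q ⊔ residualAut E₁ E₂ p Q

theorem residualAut_le (Q : Subgroup Ω) : residualAut E₁ E₂ p Q ≤ commonAut E₁ E₂ Q :=
  Subgroup.map_subtype_le _

theorem mem_residualAut_of_coprime {Q : Subgroup Ω} {a : MulAut Q}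
    (ha : a ∈ commonAut E₁ E₂ Q) (hco : (orderOf a).Coprime p) : a ∈ residualAut E₁ E₂ p Q :=
  Transfer.mem_map_pResidual_of_coprime ha hco

theorem residualAut_le_iff {Q : Subgroup Ω} {N : Subgroup (MulAut Q)} :
    residualAut E₁ E₂ p Q ≤ N ↔ ∀ a ∈ commonAut E₁ E₂ Q, (orderOf a).Coprime p → a ∈ N := by
  refine ⟨fun h a ha hco => h (mem_residualAut_of_coprime ha hco), fun h => ?_⟩
  rw [residualAut, Subgroup.map_le_iff_le_comap, Transfer.pResidual_le_iff]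
  intro a ha
  exact h a a.2 (by rwa [Subgroup.orderOf_coe])

theorem autInducedBy_le_commonAut {Q : Subgroup Ω} (hQ : Q ≤ T₁ ⊓ T₂) :
    autInducedBy (T₁ ⊓ T₂) Q ≤ commonAut E₁ E₂ Q :=
  le_inf ((autInducedBy_mono inf_le_left).trans (autInducedBy_le_autGroup (hQ.trans inf_le_left)))
    ((autInducedBy_mono inf_le_right).trans (autInducedBy_le_autGroup (hQ.trans inf_le_right)))

theorem baseAut_le {Q : Subgroup Ω} (hQ : Q ≤ T₁ ⊓ T₂) :
    baseAut E₁ E₂ p Q ≤ commonAut E₁ E₂ Q :=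
  sup_le (autInducedBy_le_commonAut hQ) (residualAut_le Q)

theorem baseAut_le_autGroup {Q : Subgroup Ω} (hQ : TCentric F (T₁ ⊓ T₂) Q) :
    baseAut E₁ E₂ p Q ≤ (wedgeSystem F E₁ E₂ p).autGroup Q :=
  sup_le (autInducedBy_le_autGroup hQ.1)
    (residualAut_le_iff.2 fun _ ha hco => (mem_autGroup hQ.1).2 (autHom_mem_wedge hQ ha hco))

section Normal

variable [Fact p.Prime] [Finite S]

theorem stronglyClosed_wedge (h₁ : E₁.IsNormalIn F p) (h₂ : E₂.IsNormalIn F p) :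
    F.StronglyClosed (T₁ ⊓ T₂) :=
  stronglyClosed_inf_of h₁.1.2.2.2.1 h₂.1.2.2.2.1

omit [Fact p.Prime] [Finite S] in
theorem wedgeSystem_le (h₁ : E₁.IsNormalIn F p) :
    (wedgeSystem F E₁ E₂ p).IsSubsystemOf F :=
  fun P _ h => h₁.1.2.2.1 P (wedgeSystem_le_left P h)

theorem congr_mem_commonAut (hS : IsPGroup p S) (h₁ : E₁.IsNormalIn F p)
    (h₂ : E₂.IsNormalIn F p) {P Q : Subgroup Ω} (e : P ≃* Q)
    (he : Q.subtype.comp e.toMonoidHom ∈ F.Hom P) (hP : P ≤ T₁ ⊓ T₂) {a : MulAut P}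
    (ha : a ∈ commonAut E₁ E₂ P) : MulAut.congr e a ∈ commonAut E₁ E₂ Q :=
  ⟨congr_mem_autGroup_of_stronglyInvariant (stronglyInvariant_of_isWeaklyNormalIn hS h₁.1) e he
      (hP.trans inf_le_left) ha.1,
    congr_mem_autGroup_of_stronglyInvariant (stronglyInvariant_of_isWeaklyNormalIn hS h₂.1) e he
      (hP.trans inf_le_right) ha.2⟩

theorem conj_mem_commonAut (hS : IsPGroup p S) (h₁ : E₁.IsNormalIn F p)
    (h₂ : E₂.IsNormalIn F p) {Q : Subgroup Ω} (hQ : Q ≤ T₁ ⊓ T₂) {k a : MulAut Q}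
    (hk : k ∈ F.autGroup Q) (ha : a ∈ commonAut E₁ E₂ Q) : k * a * k⁻¹ ∈ commonAut E₁ E₂ Q :=
  ⟨conj_mem_autGroup_of_stronglyInvariant h₁.1.2.2.2.1.1
      (stronglyInvariant_of_isWeaklyNormalIn hS h₁.1) (hQ.trans inf_le_left) hk ha.1,
    conj_mem_autGroup_of_stronglyInvariant h₂.1.2.2.2.1.1
      (stronglyInvariant_of_isWeaklyNormalIn hS h₂.1) (hQ.trans inf_le_right) hk ha.2⟩

theorem conj_mem_residualAut (hS : IsPGroup p S) (h₁ : E₁.IsNormalIn F p)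
    (h₂ : E₂.IsNormalIn F p) {Q : Subgroup Ω} (hQ : Q ≤ T₁ ⊓ T₂) {k a : MulAut Q}
    (hk : k ∈ F.autGroup Q) (ha : a ∈ residualAut E₁ E₂ p Q) :
    k * a * k⁻¹ ∈ residualAut E₁ E₂ p Q := by
  have h : residualAut E₁ E₂ p Q ≤
      (residualAut E₁ E₂ p Q).comap (MulAut.conj k).toMonoidHom := residualAut_le_iff.2
    fun b hb hco => mem_residualAut_of_coprime (conj_mem_commonAut hS h₁ h₂ hQ hk hb) (by
      show (orderOf ((MulAut.conj k).toMonoidHom b)).Coprime p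
      rwa [orderOf_injective _ (MulEquiv.injective _)])
  exact h ha

/-- A `p`-automorphism common to both systems is carried by `O^p` into `Aut_S(Q)`. -/
theorem exists_residual_conj_mem (hS : IsPGroup p S) (h₁ : E₁.IsNormalIn F p)
    (h₂ : E₂.IsNormalIn F p) {Q : Subgroup Ω} (hQT : Q ≤ T₁ ⊓ T₂) (hQ : F.IsFullyNormalized Q)
    {a : MulAut Q} (ha : a ∈ commonAut E₁ E₂ Q) (hap : IsPGroup p (Subgroup.zpowers a)) :
    ∃ o ∈ residualAut E₁ E₂ p Q, o * a * o⁻¹ ∈ autInducedBy S Q := by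
  haveI := finite_mulAut (S := S) hQ.1
  set X := commonAut E₁ E₂ Q with hX
  have hXF : X ≤ F.autGroup Q := inf_le_left.trans (autGroup_mono h₁.1.2.2.1 Q)
  obtain ⟨-, hsyl⟩ := isFullyAutomized_iff.1 (isFullyAutomized_of_isFullyNormalized hS h₁.1.2.1 hQ)
  have hPX := isSylowIn_inf_of_normalized hsyl hXF fun k hk h hh =>
    conj_mem_commonAut hS h₁ h₂ hQT hk hh
  set O := residualAut E₁ E₂ p Q with hO
  set P := autInducedBy S Q ⊓ X with hP
  have hXle : X ≤ P ⊔ O := by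
    intro x hx
    have h := Transfer.pResidual_sup_sylow hPX.toSylow
    have hx' : (⟨x, hx⟩ : X) ∈ pResidual p X ⊔ (hPX.toSylow : Subgroup X) := by
      rw [h]; exact Subgroup.mem_top _
    have hm := Subgroup.mem_map_of_mem X.subtype hx'
    rw [Subgroup.map_sup] at hm
    refine (sup_le le_sup_right ?_ : _ ≤ P ⊔ O) hm
    rintro _ ⟨y, hy, rfl⟩
    exact Subgroup.mem_sup_left hy
  obtain ⟨k, hk, hle⟩ := hPX.exists_conj_le hap (Subgroup.zpowers_le.2 ha)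
  have hnorm : P ≤ Subgroup.normalizer (O : Set (MulAut Q)) := by
    intro s hs
    rw [Subgroup.mem_normalizer_iff]
    refine fun y => ⟨fun hy => conj_mem_residualAut hS h₁ h₂ hQT (hXF hs.2) hy, fun hy => ?_⟩
    have h := conj_mem_residualAut hS h₁ h₂ hQT (Subgroup.inv_mem _ (hXF hs.2)) hy
    simpa [mul_assoc] using h
  replace hk : k ∈ ((P ⊔ O : Subgroup (MulAut Q)) : Set (MulAut Q)) := hXle hk
  rw [Subgroup.coe_mul_of_left_le_normalizer_right _ _ hnorm] at hk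
  obtain ⟨s, hs, o, ho, rfl⟩ := hk
  refine ⟨o, ho, ?_⟩
  have h1 : s * o * a * (s * o)⁻¹ ∈ autInducedBy S Q :=
    (hle ⟨a, Subgroup.mem_zpowers a, rfl⟩).1
  have h2 := (autInducedBy S Q).mul_mem ((autInducedBy S Q).mul_mem
    ((autInducedBy S Q).inv_mem hs.1) h1) hs.1
  simpa [mul_assoc, mul_inv_rev] using h2

/-- The action of an element of `T₁ ∩ T₂`, carried by a map of `F` to a fully normalized subgroup,
lies in `baseAut`. -/
theorem congr_mem_baseAut (hS : IsPGroup p S) (h₁ : E₁.IsNormalIn F p)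
    (h₂ : E₂.IsNormalIn F p) {Q Q' : Subgroup Ω} (hQT : Q ≤ T₁ ⊓ T₂)
    (hQ : F.IsFullyNormalized Q) {τ : Q' →* Ω} (hτ : τ ∈ F.Hom Q') (hr : τ.range = Q) {v : Ω}
    (hv : v ∈ T₁ ⊓ T₂) (hvn : v ∈ Subgroup.normalizer (Q' : Set Ω)) :
    MulAut.congr (isoOnto τ (F.injective_of_mem hτ) hr) (conjAut Q' v hvn) ∈
      baseAut E₁ E₂ p Q := by
  classical
  have hF := h₁.1.2.1
  have hV := stronglyClosed_wedge h₁ h₂
  have hVp : IsPGroup p (T₁ ⊓ T₂ : Subgroup Ω) := hS.to_le hV.1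
  have hQ'T : Q' ≤ T₁ ⊓ T₂ := by
    obtain ⟨τ', hτ', hr', -⟩ := exists_inverse hτ hr
    intro x hx
    obtain ⟨y, hy⟩ := hr'.ge hx
    exact hy ▸ hV.2 Q hQT τ' hτ' y
  haveI := finite_mulAut (S := S) hQ.1
  set e := isoOnto τ (F.injective_of_mem hτ) hr with he
  have hem : Q.subtype.comp e.toMonoidHom ∈ F.Hom Q' := mem_congr hτ fun x => rfl
  have hcv : conjAut Q' v hvn ∈ autInducedBy (T₁ ⊓ T₂) Q' :=
    mem_autInducedBy.2 ⟨v, hv, fun _ => rfl⟩
  have ha := congr_mem_commonAut hS h₁ h₂ e hem hQ'T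
    (autInducedBy_le_commonAut (E₁ := E₁) (E₂ := E₂) hQ'T hcv)
  have hap : IsPGroup p (Subgroup.zpowers (MulAut.congr e (conjAut Q' v hvn))) :=
    ((isPGroup_autInducedBy hVp).map (MulAut.congr e).toMonoidHom).to_le
      (Subgroup.zpowers_le.2 ⟨_, hcv, rfl⟩)
  obtain ⟨o, ho, hoa⟩ := exists_residual_conj_mem hS h₁ h₂ hQT hQ ha hap
  have hoF : o ∈ F.autGroup Q := autGroup_mono h₁.1.2.2.1 Q (residualAut_le Q ho).1
  obtain ⟨τ', hτ', hτ'x⟩ := exists_comp hτ (autGroup_hom_mem hQ.1 hoF) fun x => hr.le ⟨x, rfl⟩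
  have hτ'e : ∀ x, τ' x = (o (e x) : Ω) := hτ'x
  have hr' : τ'.range = Q := by
    refine le_antisymm ?_ fun y hy => ⟨(e.trans o).symm ⟨y, hy⟩, ?_⟩
    · rintro _ ⟨x, rfl⟩
      rw [hτ'e]
      exact (o _).2
    · rw [hτ'e]
      exact congrArg Subtype.val ((e.trans o).apply_symm_apply ⟨y, hy⟩)
  have he' : isoOnto τ' (F.injective_of_mem hτ') hr' = e.trans o := by
    ext x
    exact hτ'e x
  have hvext : v ∈ extender S Q' τ' := by
    refine mem_extender_of_transport (F.injective_of_mem hτ') hr' (hV.1 hv) hvn ?_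
    rw [he']
    refine Eq.mp (congrArg (· ∈ autInducedBy S Q) ?_) hoa
    ext y
    rfl
  obtain ⟨ψ, hψ, hag⟩ := (isReceptive_of_isFullyNormalized hS hF hQ).2 Q' τ' hτ' hr'
  have hψv : ψ ⟨v, hvext⟩ ∈ T₁ ⊓ T₂ := stronglyClosed_map hV hψ _ hv
  have hw : o * MulAut.congr e (conjAut Q' v hvn) * o⁻¹ ∈ autInducedBy (T₁ ⊓ T₂) Q := by
    refine mem_autInducedBy.2 ⟨_, hψv, fun y => ?_⟩
    obtain ⟨x, rfl⟩ := (e.trans o).surjective y
    have hle := le_extender (S := S) hτ'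
    have hl : ((o * MulAut.congr e (conjAut Q' v hvn) * o⁻¹) (e.trans o x) : Ω) =
        τ' (conjAut Q' v hvn x) := by
      rw [hτ'e]
      show (o (e (conjAut Q' v hvn (e.symm (o⁻¹ (o (e x)))))) : Ω) = _
      rw [MulAut.inv_apply_self, e.symm_apply_apply]
    have hx : ψ (Subgroup.inclusion hle x) = (e.trans o x : Ω) :=
      (hag x x.2 (hle x.2)).trans (hτ'e x)
    rw [hl, ← hag (conjAut Q' v hvn x) (SetLike.coe_mem _) (hle (SetLike.coe_mem _)), ← hx,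
      ← map_inv, ← map_mul, ← map_mul]
    rfl
  have ho' : o ∈ baseAut E₁ E₂ p Q := Subgroup.mem_sup_right ho
  have h := (baseAut E₁ E₂ p Q).mul_mem ((baseAut E₁ E₂ p Q).mul_mem
    ((baseAut E₁ E₂ p Q).inv_mem ho') (Subgroup.mem_sup_left hw)) ho'
  simpa [mul_assoc] using h

/-- `baseAut` is normalized by `Aut_F(Q)`. -/
theorem conj_mem_baseAut (hS : IsPGroup p S) (h₁ : E₁.IsNormalIn F p) (h₂ : E₂.IsNormalIn F p)
    {Q : Subgroup Ω} (hQT : Q ≤ T₁ ⊓ T₂) (hQ : F.IsFullyNormalized Q) {k a : MulAut Q}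
    (hk : k ∈ F.autGroup Q) (ha : a ∈ baseAut E₁ E₂ p Q) : k * a * k⁻¹ ∈ baseAut E₁ E₂ p Q := by
  have h : baseAut E₁ E₂ p Q ≤ (baseAut E₁ E₂ p Q).comap (MulAut.conj k).toMonoidHom := by
    refine sup_le ?_ fun b hb => Subgroup.mem_sup_right (conj_mem_residualAut hS h₁ h₂ hQT hk hb)
    intro b hb
    obtain ⟨v, hvn, hv, rfl⟩ := mem_autInducedBy_normalizer.1 hb
    have h := congr_mem_baseAut (E₁ := E₁) (E₂ := E₂) hS h₁ h₂ hQT hQ
      (autGroup_hom_mem hQ.1 hk) (range_autHom k) hv hvn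
    have e : isoOnto (autHom k) (F.injective_of_mem (autGroup_hom_mem hQ.1 hk)) (range_autHom k) =
        k := by
      ext x; rfl
    rw [e] at h
    exact h
  exact h ha

/-- `Aut_{T₁ ∩ T₂}(Q)` is a Sylow subgroup of `baseAut`. -/
theorem isSylowIn_baseAut (hS : IsPGroup p S) (h₁ : E₁.IsNormalIn F p) (h₂ : E₂.IsNormalIn F p)
    {Q : Subgroup Ω} (hQT : Q ≤ T₁ ⊓ T₂) (hQ : F.IsFullyNormalized Q) :
    IsSylowIn p (autInducedBy (T₁ ⊓ T₂) Q) (baseAut E₁ E₂ p Q) := by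
  haveI := finite_mulAut (S := S) hQ.1
  set X := commonAut E₁ E₂ Q
  have hXF : X ≤ F.autGroup Q := inf_le_left.trans (autGroup_mono h₁.1.2.2.1 Q)
  obtain ⟨-, hsyl⟩ := isFullyAutomized_iff.1 (isFullyAutomized_of_isFullyNormalized hS h₁.1.2.1 hQ)
  have h := isSylowIn_inf_of_normalized hsyl ((baseAut_le hQT).trans hXF) fun k hk b hb =>
    conj_mem_baseAut hS h₁ h₂ hQT hQ hk hb
  have hVS : T₁ ⊓ T₂ ≤ S := (stronglyClosed_wedge h₁ h₂).1
  have heq : autInducedBy S Q ⊓ baseAut E₁ E₂ p Q = autInducedBy (T₁ ⊓ T₂) Q := by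
    refine le_antisymm ?_ (le_inf (autInducedBy_mono hVS) le_sup_left)
    rintro x ⟨hxS, hx⟩
    have hnorm : autInducedBy (T₁ ⊓ T₂) Q ≤
        Subgroup.normalizer (residualAut E₁ E₂ p Q : Set (MulAut Q)) := by
      intro s hs
      have hsF : s ∈ F.autGroup Q := hXF (autInducedBy_le_commonAut hQT hs)
      rw [Subgroup.mem_normalizer_iff]
      refine fun y => ⟨fun hy => conj_mem_residualAut hS h₁ h₂ hQT hsF hy, fun hy => ?_⟩
      have h := conj_mem_residualAut hS h₁ h₂ hQT (Subgroup.inv_mem _ hsF) hy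
      simpa [mul_assoc] using h
    replace hx : x ∈ ((autInducedBy (T₁ ⊓ T₂) Q ⊔ residualAut E₁ E₂ p Q :
      Subgroup (MulAut Q)) : Set (MulAut Q)) := hx
    rw [Subgroup.coe_mul_of_left_le_normalizer_right _ _ hnorm] at hx
    obtain ⟨s, hs, o, ho, rfl⟩ := hx
    refine Subgroup.mul_mem _ hs (mem_autInducedBy_inf_of_pResidual hS h₁ h₂
      (hQT.trans inf_le_left) (hQT.trans inf_le_right) hQ ⟨ho, ?_⟩)
    have h := (autInducedBy S Q).mul_mem ((autInducedBy S Q).inv_mem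
      (autInducedBy_mono hVS hs)) hxS
    rwa [inv_mul_cancel_left] at h
  rwa [heq] at h

/-! ### Invariance -/

theorem exists_act_bothSystem (hS : IsPGroup p S) (h₁ : E₁.IsNormalIn F p)
    (h₂ : E₂.IsNormalIn F p) {a : MulAut (T₁ ⊓ T₂ : Subgroup Ω)}
    (ha : a ∈ F.autGroup (T₁ ⊓ T₂)) {Q : Subgroup Ω} {ψ : Q →* Ω}
    (hψ : ψ ∈ (bothSystem E₁ E₂).Hom Q) :
    ∃ χ ∈ (bothSystem E₁ E₂).Hom (imgSub (autHom a) Q), ∀ x : Q,
      χ ⟨_, imgSub_act_mem (src_le hψ) x⟩ = (a ⟨ψ x, val_mem hψ x⟩ : Ω) := by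
  have hV := stronglyClosed_wedge h₁ h₂
  have haF := autGroup_hom_mem hV.1 ha
  have hQ := src_le hψ
  obtain ⟨χ₁, hχ₁, hx₁⟩ := stronglyInvariant_of_isWeaklyNormalIn hS h₁.1 Q (T₁ ⊓ T₂) hQ
    inf_le_left ψ hψ.1.1 (val_mem hψ) (autHom a) haF
  obtain ⟨χ₂, hχ₂, hx₂⟩ := stronglyInvariant_of_isWeaklyNormalIn hS h₂.1 Q (T₁ ⊓ T₂) hQ
    inf_le_right ψ hψ.2.1 (val_mem hψ) (autHom a) haF
  have hval : ∀ x : Q, χ₁ ⟨_, imgSub_act_mem hQ x⟩ = (a ⟨ψ x, val_mem hψ x⟩ : Ω) :=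
    fun x => hx₁ x _
  have hV' : ∀ y, χ₁ y ∈ T₁ ⊓ T₂ := by
    rintro ⟨y, hy⟩
    obtain ⟨x, hxS, rfl⟩ := exists_of_mem_imgSub_act hy
    exact (hval x).symm ▸ SetLike.coe_mem _
  have heq : χ₁ = χ₂ := by
    refine MonoidHom.ext ?_
    rintro ⟨y, hy⟩
    obtain ⟨x, hxS, rfl⟩ := exists_of_mem_imgSub_act hy
    exact (hval x).trans (hx₂ x hy).symm
  exact ⟨χ₁, ⟨⟨hχ₁, imgSub_act_le Q, hV'⟩, ⟨heq ▸ hχ₂, imgSub_act_le Q, hV'⟩⟩, hval⟩

theorem wedgeGood_transportAct (hS : IsPGroup p S) (h₁ : E₁.IsNormalIn F p)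
    (h₂ : E₂.IsNormalIn F p) {D : FusionSystem (T₁ ⊓ T₂)} (hD : WedgeGood F E₁ E₂ p D)
    {a : MulAut (T₁ ⊓ T₂ : Subgroup Ω)} (ha : a ∈ F.autGroup (T₁ ⊓ T₂)) :
    WedgeGood F E₁ E₂ p (transportAct (bothSystem E₁ E₂) D a) := by
  intro P hP α hα hco
  have hV := stronglyClosed_wedge h₁ h₂
  have hθm : (autHom a).comp (Subgroup.inclusion hP.1) ∈ F.Hom P :=
    restrict_mem (autGroup_hom_mem hV.1 ha) hP.1
  set e := isoOnto _ (F.injective_of_mem hθm) (range_restrict (autHom a) hP.1) with he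
  have hem : (imgSub (autHom a) P).subtype.comp e.toMonoidHom ∈ F.Hom P :=
    mem_congr hθm fun x => rfl
  have hmem := hD _ (hP.act hV.1 ha) _ (congr_mem_commonAut hS h₁ h₂ e hem hP.1 hα)
    (by rwa [(MulAut.congr e).orderOf_eq α])
  refine ⟨autHom_mem_bothSystem hP.1 hα, _, _, hmem, fun x => ⟨imgSub_act_mem hP.1 x, ?_⟩⟩
  show (e (α (e.symm (e x))) : Ω) = _
  rw [e.symm_apply_apply]
  rfl

theorem actInvariant_wedge (hS : IsPGroup p S) (h₁ : E₁.IsNormalIn F p)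
    (h₂ : E₂.IsNormalIn F p) : ActInvariant (wedgeSystem F E₁ E₂ p) F := by
  intro a ha Q ψ hψ
  obtain ⟨χ, hχ, hval⟩ := exists_act_bothSystem hS h₁ h₂ ha hψ.1
  refine ⟨χ, ⟨hχ, fun D hD => ?_⟩, hval⟩
  obtain ⟨_hψF, R, χ', hχ', hx⟩ := hψ.2 _ (wedgeGood_transportAct hS h₁ h₂ hD ha)
  obtain ⟨χ'', hχ'', hx''⟩ := exists_restrict_act (src_le hψ) hχ' fun x => (hx x).1
  refine mem_congr hχ'' ?_
  rintro ⟨y, hy⟩
  obtain ⟨x, hxS, rfl⟩ := exists_of_mem_imgSub_act hy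
  exact (hval x).trans ((hx'' x).trans (hx x).2).symm

/-- The wedge is invariant in `F`. -/
theorem isInvariantIn_wedge (hS : IsPGroup p S) (h₁ : E₁.IsNormalIn F p)
    (h₂ : E₂.IsNormalIn F p) : (wedgeSystem F E₁ E₂ p).IsInvariantIn F := by
  classical
  have hF := h₁.1.2.1
  have hV := stronglyClosed_wedge h₁ h₂
  have hact := actInvariant_wedge hS h₁ h₂
  set V := T₁ ⊓ T₂ with hVdef
  haveI : Finite V := finite_of_le hV.1
  refine ⟨wedgeSystem_le h₁, hV, fun P hP φ hφ a ha => ?_, fun P hP φ hφ =>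
    exists_frattini_of_extend hS hF (wedgeSystem_le h₁) hV hact ?_ hP hφ⟩
  · obtain ⟨χ, hχ, hχx⟩ := hact a ha P φ hφ
    exact ⟨χ, hχ, fun x hφx hαx => hχx x⟩
  intro Q hQV hne hQ β hβ
  haveI := finite_mulAut (S := S) hQ.1
  have hrec := isReceptive_of_isFullyNormalized hS hF hQ
  by_cases hc : TCentric F V Q
  · -- correct by the base group to normalize the induced automorphisms
    have hsyl := isSylowIn_baseAut (E₁ := E₁) (E₂ := E₂) hS h₁ h₂ hQV hQ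
    have hconjle : (autInducedBy V Q).map (MulAut.conj β).toMonoidHom ≤ baseAut E₁ E₂ p Q := by
      rintro _ ⟨g, hg, rfl⟩
      exact conj_mem_baseAut hS h₁ h₂ hQV hQ hβ (Subgroup.mem_sup_left hg)
    obtain ⟨o, ho, hle⟩ := hsyl.exists_conj_le (hsyl.2.1.map _) hconjle
    have hoW := baseAut_le_autGroup hc ho
    have hoβ : o * β ∈ F.autGroup Q :=
      Subgroup.mul_mem _ (autGroup_mono (wedgeSystem_le h₁) Q hoW) hβ
    obtain ⟨ψ, hψ, hag⟩ := hrec.2 Q (autHom (o * β)) (autGroup_hom_mem hQ.1 hoβ) (range_autHom _)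
    have hext : normalizerIn V Q ≤ extender S Q (autHom (o * β)) := fun g hg => by
      refine mem_extender_of_conj_mem (hV.1 hg.1) hg.2 ?_
      have h1 := hle ⟨_, ⟨conjAut Q g hg.2, mem_autInducedBy.2 ⟨g, hg.1, fun _ => rfl⟩, rfl⟩, rfl⟩
      refine autInducedBy_mono hV.1 (Eq.mp (congrArg (· ∈ autInducedBy V Q) ?_) h1)
      show o * (β * conjAut Q g hg.2 * β⁻¹) * o⁻¹ = _
      simp only [mul_assoc, mul_inv_rev]
    refine ⟨o, hoW, _, le_normalizerIn hQV, fun e => ?_, inf_le_left, _, restrict_mem hψ hext,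
      fun x h => hag x x.2 (hext h)⟩
    exact absurd (congrArg (fun K : Subgroup Ω => Nat.card K) e)
      (Fusion87.card_lt_normalizerIn (hS.to_le hV.1) hQV hne).ne
  · -- extend over the centralizer
    obtain ⟨φ, hφ, hφr, hnle⟩ : ∃ φ ∈ F.Hom Q, φ.range ≤ V ∧
        ¬ centralizerIn V φ.range ≤ φ.range := by
      by_contra h
      exact hc ⟨hQV, fun φ hφ hr => by
        by_contra h'
        exact h ⟨φ, hφ, hr, h'⟩⟩
    obtain ⟨g, hg, hgQ⟩ := SetLike.not_le_iff_exists.1 hnle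
    obtain ⟨χ, hχ, hχN, hχQ⟩ := exists_map_to_fullyNormalized hS hF hQ
      (isConj_symm (isConj_range hφ))
    have hgN : g ∈ normalizerIn S φ.range :=
      ⟨hV.1 hg.1, mem_normalizer_of_mem_centralizer hg.2⟩
    set y := χ ⟨g, hgN⟩ with hy
    have hyC : y ∈ centralizerIn V Q := by
      have h := apply_mem_centralizerIn (P := φ.range) hχ ⟨g, hgN⟩ hg.2
      rw [hχQ] at h
      exact ⟨stronglyClosed_map hV hχ ⟨g, hgN⟩ hg.1, h.2⟩
    have hyQ : y ∉ Q := fun h => hgQ ((apply_mem_imgSub_iff (F.injective_of_mem hχ) ⟨g, hgN⟩).1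
      (hχQ.symm ▸ h))
    obtain ⟨ψ, hψ, hag⟩ := hrec.2 Q (autHom β) (autGroup_hom_mem hQ.1 hβ) (range_autHom _)
    have hext : Q ⊔ centralizerIn V Q ≤ extender S Q (autHom β) :=
      sup_le (le_extender (autGroup_hom_mem hQ.1 hβ))
        (le_trans (inf_le_inf_right _ hV.1) (centralizerIn_le_extender _))
    refine ⟨1, Subgroup.one_mem _, _, le_sup_left, fun e => hyQ ?_, sup_le hQV inf_le_left,
      _, restrict_mem hψ hext, fun x h => ?_⟩
    · rw [e]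
      exact Subgroup.mem_sup_right hyC
    · rw [one_mul]
      exact hag x x.2 (hext h)

theorem stronglyInvariant_wedge (hS : IsPGroup p S) (h₁ : E₁.IsNormalIn F p)
    (h₂ : E₂.IsNormalIn F p) : StronglyInvariant (wedgeSystem F E₁ E₂ p) F := by
  have hinv := isInvariantIn_wedge hS h₁ h₂
  exact fun P Q hPQ hQT φ hφ hφQ ψ hψ =>
    (Cfsg.Agent.S5119.result p hS F h₁.1.2.1 _ hinv.1 hinv.2.1).mp hinv P Q hPQ hQT φ hφ hφQ ψ hψ

end Normal

end Cfsg.Agent.Lib.Fusion.Wedge
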