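/-
The automorphism group of a fully normalized centric subgroup in the wedge is `baseAut`, provided
the classes of larger subgroups are saturated.
-/
import Cfsg.Agent.Lib.Fusion.Wedge.Basic
import Cfsg.Agent.Lib.Fusion.SatCriterion

set_option autoImplicit false
set_option linter.style.haveILetI false

namespace Cfsg.Agent.Lib.Fusion.Wedge

open Cfsg Cfsg.FusionSystem

universe u

variable {Ω : Type u} [Group Ω] {S T₁ T₂ : Subgroup Ω} {F : FusionSystem S}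
  {E₁ : FusionSystem T₁} {E₂ : FusionSystem T₂} {p : ℕ}

/-- A property of the maps on the conjugates of `P` in the wedge closed under composition and
inverses holds for all of them as soon as it holds for the restrictions of maps with larger source
and for the common automorphisms of order prime to `p`. -/
theorem class_induction_wedge [Finite S] [Fact p.Prime] (hS : IsPGroup p S)
    (h₁ : E₁.IsNormalIn F p) (h₂ : E₂.IsNormalIn F p)
    {P : Subgroup Ω} (hPS : P ≠ T₁ ⊓ T₂) (Rel : ∀ Q : Subgroup Ω, (Q →* Ω) → Prop)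
    (hlink : ∀ (Q R : Subgroup Ω) (ψ : R →* Ω) (hQR : Q ≤ R),
      (wedgeSystem F E₁ E₂ p).IsConj P Q → Q ≠ R → R ≤ normalizerIn (T₁ ⊓ T₂) Q →
      ψ ∈ (wedgeSystem F E₁ E₂ p).Hom R → Rel Q (ψ.comp (Subgroup.inclusion hQR)))
    (hauto : ∀ (Q : Subgroup Ω) (a : MulAut Q), (wedgeSystem F E₁ E₂ p).IsConj P Q →
      TCentric F (T₁ ⊓ T₂) Q → a ∈ commonAut E₁ E₂ Q → (orderOf a).Coprime p →
      Rel Q (autHom a))
    (hcomp : ∀ (Q Q' : Subgroup Ω) (φ χ : Q →* Ω) (ψ : Q' →* Ω),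
      (wedgeSystem F E₁ E₂ p).IsConj P Q → φ ∈ (wedgeSystem F E₁ E₂ p).Hom Q →
      ψ ∈ (wedgeSystem F E₁ E₂ p).Hom Q' → φ.range = Q' →
      (∀ (x : Q) (h : φ x ∈ Q'), χ x = ψ ⟨φ x, h⟩) → Rel Q φ → Rel Q' ψ → Rel Q χ)
    (hinv : ∀ (Q Q' : Subgroup Ω) (φ : Q →* Ω) (ψ : Q' →* Ω),
      (wedgeSystem F E₁ E₂ p).IsConj P Q → φ ∈ (wedgeSystem F E₁ E₂ p).Hom Q →
      ψ ∈ (wedgeSystem F E₁ E₂ p).Hom Q' → φ.range = Q' →
      (∀ (x : Q) (h : φ x ∈ Q'), ψ ⟨φ x, h⟩ = x) → Rel Q φ → Rel Q' ψ)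
    {Q : Subgroup Ω} (hQ : (wedgeSystem F E₁ E₂ p).IsConj P Q) {φ : Q →* Ω}
    (hφ : φ ∈ (wedgeSystem F E₁ E₂ p).Hom Q) : Rel Q φ := by
  set V := T₁ ⊓ T₂ with hV
  set W := wedgeSystem F E₁ E₂ p with hW
  have hVS : V ≤ S := (stronglyClosed_wedge h₁ h₂).1
  haveI : Finite V := finite_of_le hVS
  have hVp : IsPGroup p V := hS.to_le hVS
  have hgen' : ∀ U : Subgroup Ω, ∀ ψ ∈ W.Hom U, ∀ Q (hQU : Q ≤ U), W.IsConj P Q → Q ≠ U →
      Rel Q (ψ.comp (Subgroup.inclusion hQU)) := by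
    intro U ψ hψ Q hQU hQ hne
    have hUV := src_le hψ
    haveI := finite_of_le hUV
    have hlt := Fusion87.card_lt_normalizerIn (hVp.to_le hUV) hQU hne
    have hQR : Q ≤ normalizerIn U Q := le_normalizerIn hQU
    exact hlink Q (normalizerIn U Q) (ψ.comp (Subgroup.inclusion inf_le_left)) hQR hQ
      (fun e => absurd (congrArg (fun K : Subgroup Ω => Nat.card K) e) hlt.ne)
      (inf_le_inf_right _ hUV) (restrict_mem hψ inf_le_left)
  let D : FusionSystem V :=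
    { Hom := fun U => {φ | φ ∈ W.Hom U ∧ ∀ Q (hQU : Q ≤ U), W.IsConj P Q →
        Rel Q (φ.comp (Subgroup.inclusion hQU))}
      le_of_mem := fun h => W.le_of_mem h.1
      injective_of_mem := fun h => W.injective_of_mem h.1
      conj_mem := fun {U g} hU hg => ⟨W.conj_mem hU hg, fun Q hQU hQ => by
        have hQS : Q ≠ V := fun e => hPS (by
          haveI := finite_of_le (isConj_le_left hQ)
          exact Subgroup.eq_of_le_of_card_ge (isConj_le_left hQ)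
            (e ▸ (isConj_card hQ).le))
        exact hgen' V _ (W.conj_mem le_rfl hg) Q (hQU.trans hU) hQ hQS⟩
      comp_mem := fun {U U' φ ψ} hφ hψ h => ⟨W.comp_mem hφ.1 hψ.1 h, fun Q hQU hQ => by
        have hle : imgSub φ Q ≤ U' := by
          rintro _ hy
          obtain ⟨x, -, rfl⟩ := mem_imgSub.1 hy
          exact h x
        have hQ' : W.IsConj P (imgSub φ Q) := isConj_trans hQ (isConj_imgSub hφ.1 hQU)
        exact hcomp Q (imgSub φ Q) _ _ _ hQ (restrict_mem hφ.1 hQU) (restrict_mem hψ.1 hle)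
          (range_restrict φ hQU) (fun x h' => rfl) (hφ.2 Q hQU hQ) (hψ.2 _ hle hQ')⟩
      inv_mem := fun {U φ} hφ => ⟨_, ⟨rangeInv_mem hφ.1, fun Q hQU hQ => by
        set μ := rangeInv φ (W.injective_of_mem hφ.1) with hμ
        have hle : imgSub μ Q ≤ U := (imgSub_le_range μ).trans (range_rangeInv _ _).le
        have hQ' : W.IsConj P (imgSub μ Q) :=
          isConj_trans hQ (isConj_imgSub (rangeInv_mem hφ.1) hQU)
        refine hinv (imgSub μ Q) Q _ _ hQ' (restrict_mem hφ.1 hle)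
          (restrict_mem (rangeInv_mem hφ.1) hQU) ?_ (fun x h => ?_) (hφ.2 _ hle hQ')
        · rw [range_restrict φ hle]
          ext y
          rw [mem_imgSub]
          constructor
          · rintro ⟨x, hx, rfl⟩
            obtain ⟨z, hz, hzx⟩ := mem_imgSub.1 hx
            have e : z = ⟨φ x, x, rfl⟩ := W.injective_of_mem (rangeInv_mem hφ.1)
              (hzx.trans (rangeInv_apply φ _ x ⟨x, rfl⟩).symm)
            rw [e] at hz
            exact hz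
          · intro hy
            obtain ⟨x, rfl⟩ := hQU hy
            exact ⟨x, mem_imgSub.2 ⟨⟨φ x, x, rfl⟩, hy, rangeInv_apply φ _ x _⟩, rfl⟩
        · exact rangeInv_apply φ _ (Subgroup.inclusion hle x) _⟩,
        fun x => rangeInv_apply _ _ x _⟩ }
  have hgood : WedgeGood F E₁ E₂ p D := fun U hU a ha hco => by
    refine ⟨autHom_mem_wedge hU ha hco, fun Q hQU hQ => ?_⟩
    by_cases e : Q = U
    · subst e
      exact hauto Q a hQ hU ha hco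
    · exact hgen' U _ (autHom_mem_wedge hU ha hco) Q hQU hQ e
  exact (hφ.2 D hgood).2 Q le_rfl hQ

/-- Every conjugate of a fully normalized `P` in the wedge maps to `P` on normalizers. -/
theorem toSink_wedge [Finite S] [Fact p.Prime] (hS : IsPGroup p S)
    (h₁ : E₁.IsNormalIn F p) (h₂ : E₂.IsNormalIn F p) {P : Subgroup Ω} (hPS : P ≠ T₁ ⊓ T₂)
    (hPn : (wedgeSystem F E₁ E₂ p).IsFullyNormalized P)
    (habove : SatAbove (wedgeSystem F E₁ E₂ p) p P) {Q : Subgroup Ω}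
    (hQ : (wedgeSystem F E₁ E₂ p).IsConj P Q) : ToSink (wedgeSystem F E₁ E₂ p) P Q := by
  set W := wedgeSystem F E₁ E₂ p with hW
  have hVS : T₁ ⊓ T₂ ≤ S := (stronglyClosed_wedge h₁ h₂).1
  haveI : Finite (T₁ ⊓ T₂ : Subgroup Ω) := finite_of_le hVS
  have hVp : IsPGroup p (T₁ ⊓ T₂ : Subgroup Ω) := hS.to_le hVS

  have hcomp : ∀ (A B : Subgroup Ω) (R : Subgroup Ω) (ψ : R →* Ω), W.IsConj P A → A ≤ R → A ≠ R →
      R ≤ normalizerIn (T₁ ⊓ T₂) A → ψ ∈ W.Hom R → imgSub ψ A = B → ToSink W P B → ToSink W P A := by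
    intro A B R ψ hA hAR hne hRA hψ hψA hB
    obtain ⟨χ, hχ, hχB⟩ := hB
    obtain ⟨μ, hμ, hμx⟩ := exists_comp hψ hχ fun x => by
      have h := apply_mem_normalizerIn hψ x (P := A) (hRA x.2).2
      rwa [hψA] at h
    refine toSink_of_link hVp hPn habove R A μ hA hAR hne hRA hμ ?_
    ext y
    rw [mem_imgSub]
    constructor
    · rintro ⟨x, hx, rfl⟩
      rw [hμx, ← hχB]
      exact apply_mem_imgSub χ _ (hψA.le (apply_mem_imgSub ψ x hx))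
    · intro hy
      obtain ⟨z, hz, rfl⟩ := mem_imgSub.1 (hχB.ge hy)
      obtain ⟨x, hx, hxz⟩ := mem_imgSub.1 (hψA.ge hz)
      refine ⟨x, hx, ?_⟩
      rw [hμx]
      exact congrArg χ (Subtype.ext hxz)
  obtain ⟨φ, hφ, hr⟩ := isConj_symm hQ
  have h := class_induction_wedge hS h₁ h₂ hPS
    (fun A φ => ToSink W P A ↔ ToSink W P φ.range) ?_ ?_ ?_ ?_ hQ hφ
  · exact h.2 (by
      rw [hr]
      exact ⟨_, subtype_mem inf_le_left, by
        rw [← range_restrict _ (le_normalizerIn hPn.1)]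
        exact le_antisymm (by rintro _ ⟨x, rfl⟩; exact x.2) (fun x hx => ⟨⟨x, hx⟩, rfl⟩)⟩)
  · intro A R ψ hAR hA hne hRA hψ
    rw [range_restrict ψ hAR]
    refine ⟨fun h => ?_, hcomp A _ R ψ hA hAR hne hRA hψ rfl⟩
    -- go back along the inverse map
    obtain ⟨τ, hτ, hτr, hτx, -⟩ := exists_inverse hψ rfl
    refine hcomp (imgSub ψ A) A ψ.range τ (isConj_trans hA (isConj_imgSub hψ hAR))
      (imgSub_le_range ψ) ?_ ?_ hτ ?_ h
    · intro e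
      have h1 : Nat.card (imgSub ψ A) = Nat.card A := card_imgSub (W.injective_of_mem hψ) hAR
      rw [e, card_range hψ] at h1
      haveI := finite_of_le (src_le hψ)
      exact hne (Subgroup.eq_of_le_of_card_ge hAR h1.le)
    · rintro _ ⟨x, rfl⟩
      exact apply_mem_normalizerIn hψ x (hRA x.2).2
    · ext y
      rw [mem_imgSub]
      constructor
      · rintro ⟨x, hx, rfl⟩
        obtain ⟨z, hz, hzx⟩ := mem_imgSub.1 hx
        rw [show x = ⟨ψ z, z, rfl⟩ from Subtype.ext hzx.symm]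
        exact (congrArg (· ∈ A) (hτx z _)).mpr hz
      · intro hy
        exact ⟨⟨_, ⟨y, hAR hy⟩, rfl⟩, apply_mem_imgSub ψ _ hy, hτx _ _⟩
  · intro A a _ _ _ _
    rw [range_autHom]
  · intro A A' φ χ ψ _ hφ' hψ hr hχ k₁ k₂
    rw [show χ.range = ψ.range from ?_, k₁, hr]
    · exact k₂
    refine le_antisymm ?_ ?_
    · rintro _ ⟨x, rfl⟩
      exact ⟨_, (hχ x (hr.le ⟨x, rfl⟩)).symm⟩
    · rintro _ ⟨y, rfl⟩
      obtain ⟨x, hx⟩ := hr.ge y.2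
      exact ⟨x, (hχ x (hr.le ⟨x, rfl⟩)).trans (congrArg ψ (Subtype.ext hx))⟩
  · intro A A' φ ψ _ hφ' hψ hr hψx k₁
    rw [show ψ.range = A from ?_, k₁, hr]
    refine le_antisymm ?_ fun y hy => ?_
    · rintro _ ⟨y, rfl⟩
      obtain ⟨x, hx⟩ := hr.ge y.2
      rw [show y = ⟨φ x, hr.le ⟨x, rfl⟩⟩ from Subtype.ext hx.symm, hψx]
      exact x.2
    · exact ⟨⟨φ ⟨y, hy⟩, hr.le ⟨_, rfl⟩⟩, hψx _ _⟩


/-- An automorphism of `R` in the wedge preserving `Q'`, read on a fully normalized conjugate of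
`Q'` in `F`, lies in `baseAut`. -/
theorem congr_resAut_mem_baseAut [Finite S] [Fact p.Prime] (hS : IsPGroup p S)
    (h₁ : E₁.IsNormalIn F p) (h₂ : E₂.IsNormalIn F p) {Q Q' R : Subgroup Ω}
    (hQT : Q ≤ T₁ ⊓ T₂) (hQ : F.IsFullyNormalized Q) (hQ'R : Q' ≤ R) (hR : R ≤ T₁ ⊓ T₂)
    (hX : ∃ X, (wedgeSystem F E₁ E₂ p).IsConj R X ∧
      (wedgeSystem F E₁ E₂ p).IsFullyAutomized p X)
    {g : MulAut R} (hg : g ∈ (wedgeSystem F E₁ E₂ p).autGroup R) (hst : g ∈ stabSub R Q')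
    {τ : Q' →* Ω} (hτ : τ ∈ F.Hom Q') (hr : τ.range = Q) :
    MulAut.congr (isoOnto τ (F.injective_of_mem hτ) hr) (resAut hQ'R ⟨g, hst⟩) ∈
      baseAut E₁ E₂ p Q := by
  classical
  set V := T₁ ⊓ T₂ with hVdef
  set W := wedgeSystem F E₁ E₂ p with hW
  have hVS : V ≤ S := (stronglyClosed_wedge h₁ h₂).1
  haveI : Finite V := finite_of_le hVS
  haveI := finite_mulAut (S := S) (hR.trans hVS)
  set e := isoOnto τ (F.injective_of_mem hτ) hr with he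
  have hem : Q.subtype.comp e.toMonoidHom ∈ F.Hom Q' := mem_congr hτ fun x => rfl
  let f : stabSub R Q' →* MulAut Q := (MulAut.congr e).toMonoidHom.comp (resAut hQ'R)
  let L : Subgroup (MulAut R) :=
    (((baseAut E₁ E₂ p Q).comap f).map (stabSub R Q').subtype)
  have hzp : ∀ h ∈ Subgroup.zpowers g, h ∈ W.autGroup R ∧ h ∈ stabSub R Q' := fun h hh =>
    ⟨Subgroup.zpowers_le.2 hg hh, Subgroup.zpowers_le.2 hst hh⟩
  suffices h : g ∈ L by
    obtain ⟨g', hg', e'⟩ := h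
    obtain rfl : g' = ⟨g, hst⟩ := Subtype.ext e'
    exact hg'
  refine mem_of_parts (p := p) (fun h hh hco => ?_) fun h hh hk => ?_
  · obtain ⟨hhW, hhs⟩ := hzp h hh
    have hres : resAut hQ'R ⟨h, hhs⟩ ∈ commonAut E₁ E₂ Q' :=
      ⟨resAut_mem hQ'R (hR.trans inf_le_left) ⟨h, hhs⟩ (autGroup_wedge_le hhW).1,
        resAut_mem hQ'R (hR.trans inf_le_right) ⟨h, hhs⟩ (autGroup_wedge_le hhW).2⟩
    refine ⟨⟨h, hhs⟩, Subgroup.mem_sup_right (mem_residualAut_of_coprime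
      (congr_mem_commonAut hS h₁ h₂ e hem (hQ'R.trans hR) hres) ?_), rfl⟩
    exact Nat.Coprime.coprime_dvd_left (orderOf_map_dvd f ⟨h, hhs⟩) (by rwa [Subgroup.orderOf_mk])
  · obtain ⟨hhW, hhs⟩ := hzp h hh
    obtain ⟨k, hk⟩ := hk
    obtain ⟨X, ⟨θ, hθ, hθr⟩, hXa⟩ := hX
    obtain ⟨hXV, hXsyl⟩ := isFullyAutomized_iff.1 hXa
    haveI := finite_mulAut (S := S) (hXV.trans hVS)
    set eX := isoOnto θ (W.injective_of_mem hθ) hθr with heX
    have hb : MulAut.congr eX h ∈ W.autGroup X :=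
      congr_mem_autGroup eX (mem_congr hθ fun x => rfl) hhW
    have hbp : IsPGroup p (Subgroup.zpowers (MulAut.congr eX h)) := by
      obtain ⟨i, -, hi⟩ := (Nat.dvd_prime_pow (Fact.out : p.Prime)).1
        (orderOf_dvd_of_pow_eq_one hk)
      refine IsPGroup.of_card (n := i) ?_
      rw [Nat.card_zpowers, (MulAut.congr eX).orderOf_eq, hi]
    obtain ⟨s, hs, hle⟩ := hXsyl.exists_conj_le hbp (Subgroup.zpowers_le.2 hb)
    obtain ⟨v, hvn, hv, hvx⟩ :=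
      mem_autInducedBy_normalizer.1 (hle ⟨_, Subgroup.mem_zpowers _, rfl⟩)
    obtain ⟨θ', hθ', hθ'x⟩ := exists_comp hθ (autGroup_hom_mem hXV hs) fun x => hθr.le ⟨x, rfl⟩
    have hconj : ∀ x : R, θ' (h x) = v * θ' x * v⁻¹ := by
      intro x
      have h1 : (s (eX (h (eX.symm (s⁻¹ (s (eX x)))))) : Ω) = v * (s (eX x) : Ω) * v⁻¹ :=
        congrArg (fun a : MulAut X => (a (s (eX x)) : Ω)) hvx
      rw [MulAut.inv_apply_self, eX.symm_apply_apply] at h1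
      rw [hθ'x, hθ'x]
      exact h1
    -- the image of `Q'`
    have hθ'F : θ' ∈ F.Hom R := wedgeSystem_le h₁ R hθ'
    set Q₃ := imgSub θ' Q' with hQ₃
    have hθQ := restrict_mem hθ'F hQ'R
    obtain ⟨ν, hν, hνr, hνx, -⟩ := exists_inverse hθQ (range_restrict θ' hQ'R)
    obtain ⟨τ₃, hτ₃, hτ₃x⟩ := exists_comp hν hτ fun y => hνr.le ⟨y, rfl⟩
    have hτ₃v : ∀ (x : Q') (hx : θ' (Subgroup.inclusion hQ'R x) ∈ Q₃), τ₃ ⟨_, hx⟩ = τ x :=
      fun x hx => (hτ₃x _).trans (congrArg τ (Subtype.ext (hνx x hx)))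
    have hτ₃r : τ₃.range = Q := by
      refine le_antisymm ?_ fun y hy => ?_
      · rintro _ ⟨x, rfl⟩
        rw [hτ₃x]
        exact hr.le ⟨_, rfl⟩
      · obtain ⟨x, rfl⟩ := hr.ge hy
        exact ⟨⟨_, apply_mem_imgSub θ' _ x.2⟩, hτ₃v x _⟩
    let α : stabSub R Q' := ⟨h, hhs⟩
    have hv₃ : v ∈ Subgroup.normalizer (Q₃ : Set Ω) := by
      set i := isoOnto (θ'.comp (Subgroup.inclusion hQ'R))
        (F.injective_of_mem hθQ) (range_restrict θ' hQ'R) with hi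
      refine mem_normalizer_of_aut (α := MulAut.congr i (resAut hQ'R α)) fun y => ?_
      obtain ⟨x, rfl⟩ := i.surjective y
      show (i (resAut hQ'R α (i.symm (i x))) : Ω) = _
      rw [MulEquiv.symm_apply_apply]
      exact hconj _
    have h1 := congr_mem_baseAut (E₁ := E₁) (E₂ := E₂) hS h₁ h₂ hQT hQ hτ₃ hτ₃r hv hv₃
    refine ⟨α, ?_, rfl⟩
    rw [SetLike.mem_coe, Subgroup.mem_comap]
    refine Eq.mp (congrArg (· ∈ baseAut E₁ E₂ p Q) ?_) h1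
    ext y
    obtain ⟨x, rfl⟩ := e.surjective y
    have hxQ₃ : θ' (Subgroup.inclusion hQ'R x) ∈ Q₃ := apply_mem_imgSub θ' _ x.2
    have h2 : e x = isoOnto τ₃ (F.injective_of_mem hτ₃) hτ₃r ⟨_, hxQ₃⟩ :=
      Subtype.ext (hτ₃v x hxQ₃).symm
    conv_lhs => rw [h2]
    set i₃ := isoOnto τ₃ (F.injective_of_mem hτ₃) hτ₃r with hi₃
    show (i₃ (conjAut Q₃ v hv₃ (i₃.symm (i₃ ⟨_, hxQ₃⟩))) : Ω) =
      (e (resAut hQ'R α (e.symm (e x))) : Ω)
    rw [MulEquiv.symm_apply_apply, e.symm_apply_apply]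
    refine Eq.trans ?_ (hτ₃v (resAut hQ'R α x) (apply_mem_imgSub θ' _ (resAut hQ'R α x).2))
    exact congrArg τ₃ (Subtype.ext (hconj _).symm)

/-- An automorphism of `Q` extending in the wedge to a larger subgroup of its normalizer lies in
`baseAut`. -/
theorem mem_baseAut_of_link [Finite S] [Fact p.Prime] (hS : IsPGroup p S)
    (h₁ : E₁.IsNormalIn F p) (h₂ : E₂.IsNormalIn F p) {Q : Subgroup Ω}
    (hQT : Q ≤ T₁ ⊓ T₂) (hQne : Q ≠ T₁ ⊓ T₂) (hQ : F.IsFullyNormalized Q)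
    (habove : SatAbove (wedgeSystem F E₁ E₂ p) p Q) :
    ∀ (R : Subgroup Ω) (a : MulAut Q) (ψ : R →* Ω), Q ≤ R → Q ≠ R →
      R ≤ normalizerIn (T₁ ⊓ T₂) Q → ψ ∈ (wedgeSystem F E₁ E₂ p).Hom R →
      (∀ (x : Q) (h : (x : Ω) ∈ R), ψ ⟨x, h⟩ = (a x : Ω)) → a ∈ baseAut E₁ E₂ p Q := by
  classical
  have hVc := stronglyClosed_wedge h₁ h₂
  have hVS : T₁ ⊓ T₂ ≤ S := hVc.1
  have hVp : IsPGroup p (T₁ ⊓ T₂ : Subgroup Ω) := hS.to_le hVS
  haveI : Finite (T₁ ⊓ T₂ : Subgroup Ω) := finite_of_le hVS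
  have hQn : (wedgeSystem F E₁ E₂ p).IsFullyNormalized Q :=
    isFullyNormalized_subsystem hS h₁.1.2.1 (wedgeSystem_le h₁) hVc hQT hQ
  have hsink := fun A (h : (wedgeSystem F E₁ E₂ p).IsConj Q A) =>
    toSink_wedge hS h₁ h₂ hQne hQn habove h
  set W := wedgeSystem F E₁ E₂ p with hW
  suffices key : ∀ n (R : Subgroup Ω) (a : MulAut Q) (ψ : R →* Ω),
      Nat.card (T₁ ⊓ T₂ : Subgroup Ω) - Nat.card R ≤ n → Q ≤ R → Q ≠ R →
      R ≤ normalizerIn (T₁ ⊓ T₂) Q → ψ ∈ W.Hom R →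
      (∀ (x : Q) (h : (x : Ω) ∈ R), ψ ⟨x, h⟩ = (a x : Ω)) → a ∈ baseAut E₁ E₂ p Q from
    fun R a ψ => key _ R a ψ le_rfl
  intro n
  induction n using Nat.strong_induction_on with
  | _ n ih =>
    intro R a ψ hn hQR hne hRQ hψ hag
    have hRV := src_le hψ
    haveI : Finite R := finite_of_le hRV
    have hlt : Nat.card Q < Nat.card R := lt_of_le_of_ne (Subgroup.card_le_of_le hQR)
      fun e => hne (Subgroup.eq_of_le_of_card_ge hQR e.ge)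
    have hψQ : imgSub ψ Q = Q := by
      rw [imgSub_of_agree hQR (φ := autHom a) fun x hQ hN => hag ⟨x, hQ⟩ hN, range_autHom]
    obtain ⟨X, hRX, hXa, hXr⟩ := habove R hRV hlt
    by_cases hRN : R = normalizerIn (T₁ ⊓ T₂) Q
    · subst hRN
      obtain ⟨g, hg, hgx⟩ := exists_aut_of_hom hψ fun y => by
        have h := apply_mem_normalizerIn hψ y y.2.2 (P := Q)
        rwa [hψQ] at h
      have hst : g ∈ stabSub _ Q := mem_stabSub_of_imgSub (by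
        rw [show autHom g = ψ from MonoidHom.ext hgx]
        exact hψQ)
      have h1 := congr_resAut_mem_baseAut (F := F) (E₁ := E₁) (E₂ := E₂) hS h₁ h₂ hQT hQ hQR
        inf_le_left ⟨X, hRX, hXa⟩ hg hst (subtype_mem hQ.1) Q.range_subtype
      refine Eq.mp (congrArg (· ∈ baseAut E₁ E₂ p Q) ?_) h1
      have e : isoOnto Q.subtype (F.injective_of_mem (subtype_mem hQ.1)) Q.range_subtype =
          MulEquiv.refl Q := by
        ext x; rfl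
      rw [e]
      ext x
      exact (hgx _).trans (hag x _)
    obtain ⟨Q₃, hQ₃X, hQQ₃, -, s, hs, χ, hχ, χ', hχ', hχQ, hχR, hχ'Q, hrel⟩ :=
      exists_link_data hVp hRX hXa hXr hQR hRQ hψ
    obtain ⟨χ₃, hχ₃, hχ₃Q⟩ := hsink Q₃ hQQ₃
    have hIH : ∀ (b : MulAut Q) (U : Subgroup Ω) (ψ' : U →* Ω),
        ψ' ∈ W.Hom U → Q ≤ U → U ≤ normalizerIn (T₁ ⊓ T₂) Q → Nat.card R < Nat.card U →
        (∀ (x : Q) (h : (x : Ω) ∈ U), ψ' ⟨x, h⟩ = (b x : Ω)) → b ∈ baseAut E₁ E₂ p Q := by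
      intro b U ψ' hψ' hQU hUN hc hb
      have h1 := Subgroup.card_le_of_le (src_le hψ')
      exact ih _ (by omega) U b ψ' le_rfl hQU (fun e => by rw [← e] at hc; omega) hUN hψ' hb
    have hM := card_lt_normalizer_inf hVp hRQ hRN
    have hR'ne : ψ.range ≠ normalizerIn (T₁ ⊓ T₂) Q := fun e => hRN (by
      haveI := finite_normalizerIn (S := T₁ ⊓ T₂) Q
      refine Subgroup.eq_of_le_of_card_ge hRQ ?_
      rw [← card_range hψ, e])
    have hR'Q : ψ.range ≤ normalizerIn (T₁ ⊓ T₂) Q := by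
      rintro _ ⟨x, rfl⟩
      have h := apply_mem_normalizerIn hψ x (P := Q) (hRQ x.2).2
      rwa [hψQ] at h
    have hM' := card_lt_normalizer_inf hVp hR'Q hR'ne
    rw [card_range hψ] at hM'
    have hincl : (normalizerIn (T₁ ⊓ T₂) Q).subtype ∈ W.Hom (normalizerIn (T₁ ⊓ T₂) Q) :=
      subtype_mem (normalizerIn_le Q)
    have hinclQ : imgSub (normalizerIn (T₁ ⊓ T₂) Q).subtype Q = Q := by
      rw [← range_restrict _ (le_normalizerIn hQT)]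
      exact le_antisymm (by rintro _ ⟨x, rfl⟩; exact x.2) fun x hx => ⟨⟨x, hx⟩, rfl⟩
    have hQM : Q ≤ normalizerIn (T₁ ⊓ T₂) R ⊓ normalizerIn (T₁ ⊓ T₂) Q := fun x hx =>
      ⟨le_normalizerIn hRV (hQR hx), le_normalizerIn hQT hx⟩
    obtain ⟨c, hc, hcx⟩ : ∃ c, c ∈ baseAut E₁ E₂ p Q ∧
        ∀ (x : Q) (h₂ : χ ⟨x, hQM x.2⟩ ∈ normalizerIn (T₁ ⊓ T₂) Q₃), (c x : Ω) = χ₃ ⟨_, h₂⟩ := by
      obtain ⟨c, -, U, ψ', hψ', hQU, hUN, hcard, hag', hcx⟩ :=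
        exists_transfer hQT hincl hinclQ hχ hQM inf_le_right hχQ hχ₃ hχ₃Q
      exact ⟨c, hIH c U ψ' hψ' hQU hUN (hcard ▸ hM) hag',
        fun x h₂ => hcx ⟨x, hQM x.2⟩ x.2 h₂ x.2⟩
    replace hχ'Q : imgSub χ' Q = Q₃ := (congrArg (imgSub χ') hψQ.symm).trans hχ'Q
    have hQM' : Q ≤ normalizerIn (T₁ ⊓ T₂) ψ.range ⊓ normalizerIn (T₁ ⊓ T₂) (imgSub ψ Q) :=
      fun x hx => ⟨le_normalizerIn (range_le hψ) ((hψQ.ge.trans (imgSub_le_range ψ)) hx),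
        by rw [hψQ]; exact le_normalizerIn hQT hx⟩
    obtain ⟨c', hc', hc'x⟩ : ∃ c, c ∈ baseAut E₁ E₂ p Q ∧
        ∀ (x : Q) (h₂ : χ' ⟨x, hQM' x.2⟩ ∈ normalizerIn (T₁ ⊓ T₂) Q₃),
          (c x : Ω) = χ₃ ⟨_, h₂⟩ := by
      obtain ⟨c, -, U, ψ', hψ', hQU, hUN, hcard, hag', hcx⟩ :=
        exists_transfer hQT hincl hinclQ hχ' hQM'
          (inf_le_right.trans (congrArg (normalizerIn (T₁ ⊓ T₂)) hψQ).le) hχ'Q hχ₃ hχ₃Q
      refine ⟨c, hIH c U ψ' hψ' hQU hUN ?_ hag', fun x h₂ => hcx ⟨x, hQM' x.2⟩ x.2 h₂ x.2⟩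
      rw [hcard, hψQ]
      exact hM'
    have hQ₃V : Q₃ ≤ T₁ ⊓ T₂ := hQ₃X.trans hXr.1
    have hχ₃r : (χ₃.comp (Subgroup.inclusion (le_normalizerIn hQ₃V))).range = Q := by
      rw [range_restrict]
      exact hχ₃Q
    have hmid := congr_resAut_mem_baseAut (F := F) (E₁ := E₁) (E₂ := E₂) hS h₁ h₂ hQT hQ hQ₃X
      hXr.1 ⟨X, isConj_refl hXr.1, hXa⟩ hs.1 hs.2
      (wedgeSystem_le h₁ _ (restrict_mem hχ₃ (le_normalizerIn hQ₃V))) hχ₃r
    set e₃ := isoOnto (χ₃.comp (Subgroup.inclusion (le_normalizerIn hQ₃V)))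
      (F.injective_of_mem (wedgeSystem_le h₁ _ (restrict_mem hχ₃ (le_normalizerIn hQ₃V)))) hχ₃r
      with he₃
    have key : c' * a = MulAut.congr e₃ (resAut hQ₃X ⟨s, hs.2⟩) * c := by
      refine MulEquiv.ext fun x => Subtype.ext ?_
      have hxQ : χ ⟨x, hQM x.2⟩ ∈ Q₃ := hχQ.le (apply_mem_imgSub χ _ x.2)
      have h1 := hag x (hQR x.2)
      have h2 : ψ ⟨x, hQR x.2⟩ ∈
          normalizerIn (T₁ ⊓ T₂) ψ.range ⊓ normalizerIn (T₁ ⊓ T₂) (imgSub ψ Q) :=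
        h1.symm ▸ hQM' (a x).2
      have h4 : χ' ⟨a x, hQM' (a x).2⟩ = (s ⟨χ ⟨x, hQM x.2⟩, hQ₃X hxQ⟩ : Ω) :=
        (congrArg χ' (Subtype.ext h1.symm)).trans (hrel ⟨x, hQR x.2⟩ (hQM x.2) (hQ₃X hxQ) h2)
      set y : X := ⟨χ ⟨x, hQM x.2⟩, hQ₃X hxQ⟩ with hy
      have hsy : (s y : Ω) ∈ Q₃ := (hs.2 y).2 hxQ
      have h5 : c x = e₃ ⟨_, hxQ⟩ := Subtype.ext (hcx x (le_normalizerIn hQ₃V hxQ))
      show (c' (a x) : Ω) = (e₃ (resAut hQ₃X ⟨s, hs.2⟩ (e₃.symm (c x))) : Ω)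
      rw [h5, e₃.symm_apply_apply, hc'x (a x) (h4.symm ▸ le_normalizerIn hQ₃V hsy)]
      exact congrArg χ₃ (Subtype.ext h4)
    rw [show a = c'⁻¹ * (MulAut.congr e₃ (resAut hQ₃X ⟨s, hs.2⟩) * c) by
      rw [← key, inv_mul_cancel_left]]
    exact Subgroup.mul_mem _ (Subgroup.inv_mem _ hc') (Subgroup.mul_mem _ hmid hc)

/-- The automorphism group in the wedge of a fully normalized centric subgroup is `baseAut`. -/
theorem autGroup_wedge_eq [Finite S] [Fact p.Prime] (hS : IsPGroup p S)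
    (h₁ : E₁.IsNormalIn F p) (h₂ : E₂.IsNormalIn F p) {P : Subgroup Ω}
    (hP : TCentric F (T₁ ⊓ T₂) P) (hPne : P ≠ T₁ ⊓ T₂) (hPF : F.IsFullyNormalized P)
    (habove : SatAbove (wedgeSystem F E₁ E₂ p) p P) :
    (wedgeSystem F E₁ E₂ p).autGroup P = baseAut E₁ E₂ p P := by
  classical
  refine le_antisymm ?_ (baseAut_le_autGroup hP)
  have hVc := stronglyClosed_wedge h₁ h₂
  have hVS : T₁ ⊓ T₂ ≤ S := hVc.1
  haveI : Finite (T₁ ⊓ T₂ : Subgroup Ω) := finite_of_le hVS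
  have hPn : (wedgeSystem F E₁ E₂ p).IsFullyNormalized P :=
    isFullyNormalized_subsystem hS h₁.1.2.1 (wedgeSystem_le h₁) hVc hP.1 hPF
  have hsink := fun A (h : (wedgeSystem F E₁ E₂ p).IsConj P A) =>
    toSink_wedge hS h₁ h₂ hPne hPn habove h
  have hlinkA := mem_baseAut_of_link hS h₁ h₂ hP.1 hPne hPF habove
  set W := wedgeSystem F E₁ E₂ p with hW
  intro a ha
  let Rel : ∀ Q : Subgroup Ω, (Q →* Ω) → Prop := fun Q φ =>
    ∀ χ ∈ W.Hom (normalizerIn (T₁ ⊓ T₂) Q), imgSub χ Q = P → ∀ R, φ.range = R →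
      ∀ χ' ∈ W.Hom (normalizerIn (T₁ ⊓ T₂) R), imgSub χ' R = P → ∀ a ∈ W.autGroup P,
        (∀ (x : Q) (h₁ : (x : Ω) ∈ normalizerIn (T₁ ⊓ T₂) Q) (h₂ : χ ⟨x, h₁⟩ ∈ P)
          (h₃ : φ x ∈ normalizerIn (T₁ ⊓ T₂) R), (a ⟨_, h₂⟩ : Ω) = χ' ⟨φ x, h₃⟩) →
          a ∈ baseAut E₁ E₂ p P
  have hincl : imgSub (normalizerIn (T₁ ⊓ T₂) P).subtype P = P := by
    rw [← range_restrict _ (le_normalizerIn hP.1)]
    exact le_antisymm (by rintro _ ⟨x, rfl⟩; exact x.2) fun x hx => ⟨⟨x, hx⟩, rfl⟩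
  refine (class_induction_wedge hS h₁ h₂ hPne Rel ?_ ?_ ?_ ?_ (isConj_refl hP.1)
    (autGroup_hom_mem hP.1 ha)) _ (subtype_mem (normalizerIn_le P)) hincl _ (range_autHom a)
    _ (subtype_mem (normalizerIn_le P)) hincl a ha fun x _ h _ => rfl
  · intro A R ψ hAR hA hne hRA hψ χ hχ hχP B hB χ' hχ' hχ'P a ha hax
    obtain rfl : imgSub ψ A = B := (range_restrict ψ hAR).symm.trans hB
    obtain ⟨a', -, U, ψ', hψ', hPU, hUN, hcard, hag', hax'⟩ :=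
      exists_transfer hP.1 hχ hχP hψ hAR hRA rfl hχ' hχ'P
    have e : a = a' := by
      refine MulEquiv.ext fun y => Subtype.ext ?_
      obtain ⟨x, hx, hxy⟩ := mem_imgSub.1 (hχP.ge y.2)
      have h2 : χ x ∈ P := hxy ▸ y.2
      have h3 : ψ ⟨x, hAR hx⟩ ∈ normalizerIn (T₁ ⊓ T₂) (imgSub ψ A) :=
        apply_mem_normalizerIn hψ _ x.2.2
      rw [show y = ⟨χ x, h2⟩ from Subtype.ext hxy.symm]
      exact (hax ⟨x, hx⟩ x.2 h2 h3).trans (hax' ⟨x, hAR hx⟩ h2 h3 hx).symm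
    refine hlinkA U a ψ' hPU (fun e' => ?_) hUN hψ' (fun x h => by rw [e]; exact hag' x h)
    rw [← e', ← isConj_card hA] at hcard
    haveI := finite_of_le (src_le hψ)
    exact hne (Subgroup.eq_of_le_of_card_ge hAR hcard.ge)
  · intro A α hA hAc hα hco χ hχ hχP C hC χ' hχ' hχ'P a ha hax
    obtain rfl : A = C := (range_autHom α).symm.trans hC
    have hAV := hAc.1
    have hAN : A ≤ normalizerIn (T₁ ⊓ T₂) A := le_normalizerIn hAV
    have hNimg : imgSub (normalizerIn (T₁ ⊓ T₂) A).subtype A = A := by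
      rw [← range_restrict _ hAN]
      exact le_antisymm (by rintro _ ⟨x, rfl⟩; exact x.2) fun x hx => ⟨⟨x, hx⟩, rfl⟩
    obtain ⟨d, -, U, ψ', hψ', hPU, hUN, hcard, hag', hdx⟩ :=
      exists_transfer hP.1 hχ hχP (subtype_mem (normalizerIn_le A)) hAN le_rfl hNimg hχ' hχ'P
    have hd : d ∈ baseAut E₁ E₂ p P := hlinkA U d ψ' hPU (fun e' => by
      rw [← e', ← isConj_card hA] at hcard
      have hlt := Fusion87.card_lt_normalizerIn (hS.to_le hVS) hAV fun e'' => hPne (by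
        haveI := finite_of_le (hP.1.trans hVS)
        exact Subgroup.eq_of_le_of_card_ge hP.1 (by rw [← isConj_card hA, e'']))
      exact hlt.ne hcard) hUN hψ' hag'
    have hres : (χ'.comp (Subgroup.inclusion hAN)).range = P := by
      rw [range_restrict]; exact hχ'P
    have hχ'F := wedgeSystem_le (E₂ := E₂) h₁ _ (restrict_mem hχ' hAN)
    set e' := isoOnto (χ'.comp (Subgroup.inclusion hAN)) (F.injective_of_mem hχ'F) hres with he'
    have hb : MulAut.congr e' α ∈ baseAut E₁ E₂ p P :=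
      Subgroup.mem_sup_right (mem_residualAut_of_coprime
        (congr_mem_commonAut hS h₁ h₂ e' (mem_congr hχ'F fun x => rfl) hAV hα)
        (by rwa [(MulAut.congr e').orderOf_eq α]))
    rw [show a = MulAut.congr e' α * d from ?_]
    · exact Subgroup.mul_mem _ hb hd
    refine MulEquiv.ext fun y => Subtype.ext ?_
    obtain ⟨x, hx, hxy⟩ := mem_imgSub.1 (hχP.ge y.2)
    have h2 : χ x ∈ P := hxy ▸ y.2
    rw [show y = ⟨χ x, h2⟩ from Subtype.ext hxy.symm]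
    have h5 : d ⟨χ x, h2⟩ = e' ⟨x, hx⟩ := Subtype.ext (hdx x h2 x.2 hx)
    rw [MulAut.mul_apply, h5]
    refine (hax ⟨x, hx⟩ x.2 h2 (hAN (α ⟨x, hx⟩).2)).trans ?_
    show _ = (e' (α (e'.symm (e' ⟨x, hx⟩))) : Ω)
    rw [e'.symm_apply_apply]
    rfl
  · intro A B φ χc ψ hA hφ' hψ hr hχc k₁ k₂ χ hχ hχP C hC χ' hχ' hχ'P a ha hax
    have hB : W.IsConj P B := isConj_trans hA (hr ▸ isConj_range hφ')
    obtain ⟨χm, hχm, hχmP⟩ := hsink B hB
    subst hr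
    have hψr : ψ.range = C := by
      rw [← hC]
      refine le_antisymm ?_ ?_
      · rintro _ ⟨⟨_, x, rfl⟩, rfl⟩
        exact ⟨x, hχc x ⟨x, rfl⟩⟩
      · rintro _ ⟨x, rfl⟩
        exact ⟨_, (hχc x ⟨x, rfl⟩).symm⟩
    have hAN : A ≤ normalizerIn (T₁ ⊓ T₂) A := le_normalizerIn (src_le hφ')
    have hm : imgSub φ A = φ.range := imgSub_self φ
    obtain ⟨a₁, ha₁, _, _, -, -, -, -, -, ha₁x⟩ :=
      exists_transfer hP.1 hχ hχP hφ' le_rfl hAN hm hχm hχmP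
    have hBN : φ.range ≤ normalizerIn (T₁ ⊓ T₂) φ.range := le_normalizerIn (range_le hφ')
    obtain ⟨a₂, ha₂, _, _, -, -, -, -, -, ha₂x⟩ :=
      exists_transfer hP.1 hχm hχmP hψ le_rfl hBN ((imgSub_self ψ).trans hψr) hχ' hχ'P
    have e : a = a₂ * a₁ := by
      refine MulEquiv.ext fun y => Subtype.ext ?_
      obtain ⟨x, hx, hxy⟩ := mem_imgSub.1 (hχP.ge y.2)
      have h2 : χ x ∈ P := hxy ▸ y.2
      rw [show y = ⟨χ x, h2⟩ from Subtype.ext hxy.symm, MulAut.mul_apply]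
      have hm₂ : χm ⟨φ ⟨x, hx⟩, hBN ⟨_, rfl⟩⟩ ∈ P :=
        hχmP.le (apply_mem_imgSub χm _ ⟨_, rfl⟩)
      have h4 : a₁ ⟨χ x, h2⟩ = ⟨_, hm₂⟩ :=
        Subtype.ext (ha₁x ⟨x, hx⟩ h2 (hBN ⟨_, rfl⟩) hx)
      have hCS : C ≤ T₁ ⊓ T₂ := hψr ▸ range_le hψ
      have h3 : χc ⟨x, hx⟩ ∈ normalizerIn (T₁ ⊓ T₂) C := le_normalizerIn hCS (hC.le ⟨_, rfl⟩)
      rw [h4]
      refine (hax ⟨x, hx⟩ x.2 h2 h3).trans (Eq.trans ?_
        (ha₂x ⟨φ ⟨x, hx⟩, ⟨_, rfl⟩⟩ hm₂ (hχc ⟨x, hx⟩ ⟨_, rfl⟩ ▸ h3) ⟨_, rfl⟩).symm)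
      exact congrArg χ' (Subtype.ext (hχc ⟨x, hx⟩ ⟨_, rfl⟩))
    rw [e]
    exact Subgroup.mul_mem _ (k₂ χm hχm hχmP C hψr χ' hχ' hχ'P a₂ ha₂
        (fun x h₁ h₂ h₃ => ha₂x x h₂ h₃ x.2))
      (k₁ χ hχ hχP φ.range rfl χm hχm hχmP a₁ ha₁ (fun x h₁ h₂ h₃ => ha₁x x h₂ h₃ x.2))
  · intro A B φ ψ hA hφ' hψ hr hψx k₁ χ hχ hχP C hC χ' hχ' hχ'P a ha hax
    subst hr
    obtain rfl : A = C := by
      rw [← hC]
      refine le_antisymm (fun y hy => ⟨⟨_, ⟨y, hy⟩, rfl⟩, hψx _ _⟩) ?_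
      rintro _ ⟨⟨_, x, rfl⟩, rfl⟩
      exact (congrArg (· ∈ A) (hψx x _)).mpr x.2
    have h := k₁ χ' hχ' hχ'P φ.range rfl χ hχ hχP a⁻¹ (Subgroup.inv_mem _ ha)
      (fun x h₁' h₂ h₃ => by
        have h5 : χ ⟨φ x, h₃⟩ ∈ P := hχP.le (apply_mem_imgSub χ _ ⟨x, rfl⟩)
        have hAS : A ≤ normalizerIn (T₁ ⊓ T₂) A := le_normalizerIn (src_le hφ')
        have h6 := hax ⟨φ x, x, rfl⟩ h₃ h5
          ((congrArg (· ∈ normalizerIn (T₁ ⊓ T₂) A) (hψx x _)).mpr (hAS x.2))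
        have h7 : a ⟨_, h5⟩ = ⟨_, h₂⟩ :=
          Subtype.ext (h6.trans (congrArg χ' (Subtype.ext (hψx x _))))
        rw [← h7, MulAut.inv_apply_self])
    simpa using Subgroup.inv_mem _ h

end Cfsg.Agent.Lib.Fusion.Wedge
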