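/-
The wedge of two normal subsystems is saturated, so it is weakly normal in the ambient system and in
both subsystems.
-/
import Cfsg.Agent.Lib.Fusion.Wedge.Link

set_option autoImplicit false
set_option linter.style.haveILetI false

namespace Cfsg.Agent.Lib.Fusion.Wedge

open Cfsg Cfsg.FusionSystem

universe u

variable {Ω : Type u} [Group Ω] {S T T₁ T₂ : Subgroup Ω} {F : FusionSystem S}
  {E₁ : FusionSystem T₁} {E₂ : FusionSystem T₂} {p : ℕ}

/-! ### Transport by the automorphisms of the underlying group -/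

theorem automized_receptive_act [Fact p.Prime] [Finite T] (hT : IsPGroup p T) {W : FusionSystem T}
    (hact : ActInvariant W F) {a : MulAut T} (ha : a ∈ F.autGroup T) {X : Subgroup Ω}
    (hXa : W.IsFullyAutomized p X) (hXr : W.IsReceptive X) :
    W.IsFullyAutomized p (imgSub (autHom a) X) ∧ W.IsReceptive (imgSub (autHom a) X) := by
  obtain ⟨hXT, hsyl⟩ := isFullyAutomized_iff.1 hXa
  haveI := finite_of_le (S := T) hXT
  haveI := finite_mulAut (S := T) hXT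
  have hai := Subgroup.inv_mem _ ha
  have hinj : Function.Injective ((autHom a).comp (Subgroup.inclusion hXT)) := fun u v h =>
    Subgroup.inclusion_injective hXT (a.injective (Subtype.ext h))
  set Y := imgSub (autHom a) X with hY
  set e : X ≃* Y := isoOnto _ hinj (range_restrict (autHom a) hXT) with he
  have hev : ∀ x : X, (e x : Ω) = (a ⟨x, hXT x.2⟩ : Ω) := fun x => rfl
  have hYT : Y ≤ T := imgSub_act_le X
  have hback : X ≤ imgSub (autHom a⁻¹) Y := by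
    intro x hx
    have h := imgSub_act_mem (a := a⁻¹) hYT (e ⟨x, hx⟩)
    have h1 : (a⁻¹ ⟨(e ⟨x, hx⟩ : Ω), hYT (e ⟨x, hx⟩).2⟩ : Ω) = x :=
      congrArg Subtype.val (MulAut.inv_apply_self _ a ⟨x, hXT hx⟩)
    rwa [h1] at h
  have hmap : (W.autGroup X).map (MulAut.congr e).toMonoidHom = W.autGroup Y := by
    refine le_antisymm ?_ fun β hβ => ⟨MulAut.congr e.symm β, ?_, ?_⟩
    · rintro _ ⟨α, hα, rfl⟩
      obtain ⟨μ, hμ, hμx⟩ := hact a ha X (autHom α) (autGroup_hom_mem hXT hα)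
      refine (mem_autGroup hYT).2 (mem_congr hμ fun y => ?_)
      obtain ⟨x, rfl⟩ := e.surjective y
      show (e (α (e.symm (e x))) : Ω) = _
      rw [e.symm_apply_apply]
      exact (hμx x).symm
    · obtain ⟨μ, hμ, hμx⟩ := hact a⁻¹ hai Y (autHom β) (autGroup_hom_mem hYT hβ)
      refine (mem_autGroup hXT).2 (mem_of_restrict hμ hback fun x => ?_)
      have h1 : (a⁻¹ ⟨(e x : Ω), hYT (e x).2⟩ : Ω) = x :=
        congrArg Subtype.val (MulAut.inv_apply_self _ a ⟨x, hXT x.2⟩)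
      refine Eq.trans ?_ ((congrArg μ (Subtype.ext h1.symm)).trans (hμx (e x))).symm
      show (e.symm (β (e.symm.symm x)) : Ω) = _
      obtain ⟨z, hz⟩ := e.surjective (β (e x))
      rw [show e.symm.symm x = e x from rfl, ← hz, e.symm_apply_apply]
      refine (congrArg Subtype.val (MulAut.inv_apply_self _ a ⟨z, hXT z.2⟩)).symm.trans ?_
      exact congrArg (fun w : T => (a⁻¹ w : Ω)) (Subtype.ext (congrArg (fun w : Y => (w : Ω)) hz))
    · ext y
      simp [MulAut.congr]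
  refine ⟨isFullyAutomized_iff.2 ⟨hYT, ?_⟩, hYT, fun A φ hφ hr => ?_⟩
  · have h := hsyl.map (MulAut.congr e).toMonoidHom
    rw [hmap] at h
    have hle : (autInducedBy T X).map (MulAut.congr e).toMonoidHom ≤ autInducedBy T Y := by
      rintro _ ⟨α, hα, rfl⟩
      obtain ⟨g, hg, hgx⟩ := mem_autInducedBy.1 hα
      refine mem_autInducedBy.2 ⟨(a ⟨g, hg⟩ : Ω), SetLike.coe_mem _, fun y => ?_⟩
      obtain ⟨x, rfl⟩ := e.surjective y
      show (e (α (e.symm (e x))) : Ω) = _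
      rw [e.symm_apply_apply, hev, hev,
        show (⟨(α x : Ω), hXT (α x).2⟩ : T) = ⟨g, hg⟩ * ⟨x, hXT x.2⟩ * ⟨g, hg⟩⁻¹ from
          Subtype.ext (hgx x), map_mul, map_mul, map_inv]
      rfl
    haveI := finite_mulAut (S := T) hYT
    rw [← h.eq_of_le (isPGroup_autInducedBy hT) (autInducedBy_le_autGroup hYT) hle]
    exact h
  · obtain ⟨φ', hφ', hφ'x⟩ := hact a⁻¹ hai A φ hφ
    have hA := src_le hφ
    have hr' : φ'.range = X := by
      refine le_antisymm ?_ fun x hx => ?_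
      · rintro _ ⟨⟨y, hy⟩, rfl⟩
        obtain ⟨z, hzT, rfl⟩ := exists_of_mem_imgSub_act hy
        have h1 : φ z ∈ imgSub (autHom a) X := (hY ▸ hr.le ⟨z, rfl⟩)
        obtain ⟨x, hxT, hxz⟩ := exists_of_mem_imgSub_act h1
        refine Eq.mp (congrArg (· ∈ X) (Eq.symm ((hφ'x z).trans ?_))) x.2
        refine (congrArg (fun w : T => (a⁻¹ w : Ω)) (Subtype.ext hxz.symm)).trans ?_
        exact congrArg Subtype.val (MulAut.inv_apply_self _ a ⟨x, hxT⟩)
      · obtain ⟨z, hz⟩ := hr.ge (e ⟨x, hx⟩).2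
        refine ⟨⟨_, imgSub_act_mem hA z⟩, (hφ'x z).trans ?_⟩
        refine (congrArg (fun w : T => (a⁻¹ w : Ω)) (Subtype.ext (hz.trans (hev ⟨x, hx⟩)))).trans ?_
        exact congrArg Subtype.val (MulAut.inv_apply_self _ a ⟨x, hXT hx⟩)
    obtain ⟨ψ', hψ', hag⟩ := hXr.2 _ φ' hφ' hr'
    obtain ⟨ψ, hψ, hψx⟩ := hact a ha _ ψ' hψ'
    have hmem : ∀ g (hg : g ∈ extender T A φ), (a⁻¹ ⟨g, (mem_extender.1 hg).1⟩ : Ω) ∈
        extender T (imgSub (autHom a⁻¹) A) φ' := by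
      intro g hg
      obtain ⟨hgT, hgn, h, hhT, hh⟩ := mem_extender.1 hg
      refine mem_extender.2 ⟨SetLike.coe_mem _, ?_, (a⁻¹ ⟨h, hhT⟩ : Ω), SetLike.coe_mem _, ?_⟩
      · exact apply_mem_normalizer (autHom a⁻¹) ⟨g, hgT⟩ hgn
      · rintro ⟨y, hy⟩ hx
        obtain ⟨z, hzT, rfl⟩ := exists_of_mem_imgSub_act hy
        have hgz : g * (z : Ω) * g⁻¹ ∈ A := (Subgroup.mem_normalizer_iff.1 hgn z).1 z.2
        have e1 : (a⁻¹ ⟨g, hgT⟩ : Ω) * (a⁻¹ ⟨z, hzT⟩ : Ω) * (a⁻¹ ⟨g, hgT⟩ : Ω)⁻¹ =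
            (a⁻¹ ⟨g * (z : Ω) * g⁻¹, hA hgz⟩ : Ω) := by
          rw [show (⟨g * (z : Ω) * g⁻¹, hA hgz⟩ : T) = ⟨g, hgT⟩ * ⟨z, hzT⟩ * ⟨g, hgT⟩⁻¹ from
            Subtype.ext rfl, map_mul, map_mul, map_inv]
          rfl
        refine (congrArg φ' (Subtype.ext e1)).trans ((hφ'x ⟨_, hgz⟩).trans ?_)
        have e2 : (⟨φ ⟨_, hgz⟩, val_mem hφ _⟩ : T) =
            ⟨h, hhT⟩ * ⟨φ z, val_mem hφ z⟩ * ⟨h, hhT⟩⁻¹ := Subtype.ext (hh z hgz)
        rw [e2, map_mul, map_mul, map_inv]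
        show _ = _ * φ' ⟨_, imgSub_act_mem hA z⟩ * _
        rw [hφ'x]
        rfl
    have hle : extender T A φ ≤ imgSub (autHom a) (extender T (imgSub (autHom a⁻¹) A) φ') := by
      intro g hg
      have h := imgSub_act_mem (a := a) (src_le hψ') ⟨_, hmem g hg⟩
      have h1 : (a ⟨(a⁻¹ ⟨g, (mem_extender.1 hg).1⟩ : Ω), SetLike.coe_mem _⟩ : Ω) = g :=
        congrArg Subtype.val (MulAut.apply_inv_self _ a ⟨g, (mem_extender.1 hg).1⟩)
      rwa [h1] at h
    refine ⟨_, restrict_mem hψ hle, fun x hx hN => ?_⟩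
    show ψ ⟨x, hle hN⟩ = _
    have h1 : x = (a ⟨(a⁻¹ ⟨x, (mem_extender.1 hN).1⟩ : Ω), SetLike.coe_mem _⟩ : Ω) :=
      (congrArg Subtype.val (MulAut.apply_inv_self _ a ⟨x, (mem_extender.1 hN).1⟩)).symm
    refine (congrArg ψ (Subtype.ext h1)).trans ((hψx ⟨_, hmem x hN⟩).trans ?_)
    have h2 : ψ' ⟨_, hmem x hN⟩ = (a⁻¹ ⟨φ ⟨x, hx⟩, val_mem hφ _⟩ : Ω) :=
      (hag _ (imgSub_act_mem hA ⟨x, hx⟩) (hmem x hN)).trans (hφ'x ⟨x, hx⟩)
    refine (congrArg (fun w : T => (a w : Ω)) (Subtype.ext h2)).trans ?_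
    exact congrArg Subtype.val (MulAut.apply_inv_self _ a ⟨φ ⟨x, hx⟩, val_mem hφ _⟩)

/-! ### Extensions of elements of `baseAut` -/

/-- The elements of `V` inducing elements of `R` on `Q`. -/
def indSub (V : Subgroup Ω) {Q : Subgroup Ω} (R : Subgroup (MulAut Q)) : Subgroup Ω :=
  V ⊓ (R.comap (Subgroup.normalizerMonoidHom Q)).map (Subgroup.normalizer (Q : Set Ω)).subtype

theorem mem_indSub {V Q : Subgroup Ω} {R : Subgroup (MulAut Q)} {g : Ω} :
    g ∈ indSub V R ↔ g ∈ V ∧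
      ∃ hg : g ∈ Subgroup.normalizer (Q : Set Ω), conjAut Q g hg ∈ R := by
  constructor
  · rintro ⟨h1, y, hy, rfl⟩
    exact ⟨h1, y.2, hy⟩
  · rintro ⟨h1, hg, h2⟩
    exact ⟨h1, ⟨g, hg⟩, h2, rfl⟩

theorem indSub_le_normalizerIn (V : Subgroup Ω) {Q : Subgroup Ω} (R : Subgroup (MulAut Q)) :
    indSub V R ≤ normalizerIn V Q := fun _ h => ⟨(mem_indSub.1 h).1, (mem_indSub.1 h).2.1⟩

theorem le_indSub {V Q : Subgroup Ω} (hQ : Q ≤ V) {R : Subgroup (MulAut Q)} (hR : Inn Q ≤ R) :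
    Q ≤ indSub V R := fun x hx =>
  mem_indSub.2 ⟨hQ hx, Subgroup.le_normalizer hx, hR ⟨⟨x, hx⟩, MulEquiv.ext fun _ => rfl⟩⟩

theorem inn_le_map_conj {Q : Subgroup Ω} {R : Subgroup (MulAut Q)} (hR : Inn Q ≤ R)
    (k : MulAut Q) : Inn Q ≤ R.map (MulAut.conj k).toMonoidHom := by
  rintro _ ⟨x, rfl⟩
  refine ⟨MulAut.conj (k⁻¹ x), hR ⟨_, rfl⟩, MulEquiv.ext fun y => ?_⟩
  show k (k⁻¹ x * k⁻¹ y * (k⁻¹ x)⁻¹) = x * y * x⁻¹
  rw [map_mul, map_mul, map_inv, MulAut.apply_inv_self, MulAut.apply_inv_self]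

/-- `h` extends in `W` to the elements inducing `R`. -/
def ExtAt {V : Subgroup Ω} (W : FusionSystem V) (Q : Subgroup Ω) (R : Subgroup (MulAut Q))
    (h : MulAut Q) : Prop :=
  ∃ ψ ∈ W.Hom (indSub V R), ∀ (x : Q) (hx : (x : Ω) ∈ indSub V R), ψ ⟨x, hx⟩ = (h x : Ω)

section Ext

variable {V : Subgroup Ω} {W : FusionSystem V} {Q : Subgroup Ω}

theorem ExtAt.val_mem (hQ : Q ≤ V) {R : Subgroup (MulAut Q)} (hR : Inn Q ≤ R) {h : MulAut Q}
    {R' : Subgroup (MulAut Q)} (hle : R.map (MulAut.conj h).toMonoidHom ≤ R')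
    {ψ : indSub V R →* Ω} (hψ : ψ ∈ W.Hom (indSub V R))
    (hag : ∀ (x : Q) (hx : (x : Ω) ∈ indSub V R), ψ ⟨x, hx⟩ = (h x : Ω)) (y : indSub V R) :
    ψ y ∈ indSub V R' := by
  obtain ⟨-, hyn, hyR⟩ := mem_indSub.1 y.2
  have key : ∀ x : Q, ((h * conjAut Q y hyn * h⁻¹) x : Ω) = ψ y * (x : Ω) * (ψ y)⁻¹ := by
    intro x
    obtain ⟨z, rfl⟩ := h.surjective x
    rw [MulAut.mul_apply, MulAut.mul_apply, MulAut.inv_apply_self,
      ← hag (conjAut Q y hyn z) (le_indSub hQ hR (SetLike.coe_mem _)),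
      ← hag z (le_indSub hQ hR z.2), ← map_inv, ← map_mul, ← map_mul]
    rfl
  refine mem_indSub.2 ⟨Fusion.val_mem hψ y, mem_normalizer_of_aut key, ?_⟩
  refine Eq.mp (congrArg (· ∈ R') ?_) (hle ⟨_, hyR, rfl⟩)
  exact MulEquiv.ext fun x => Subtype.ext (key x)

theorem ExtAt.mul (hQ : Q ≤ V) {R R' : Subgroup (MulAut Q)} (hR : Inn Q ≤ R) {g g' : MulAut Q}
    (hle : R.map (MulAut.conj g).toMonoidHom ≤ R') (hg : ExtAt W Q R g)
    (hg' : ExtAt W Q R' g') : ExtAt W Q R (g' * g) := by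
  obtain ⟨ψ, hψ, hag⟩ := hg
  obtain ⟨ψ', hψ', hag'⟩ := hg'
  obtain ⟨μ, hμ, hμx⟩ := exists_comp hψ hψ' (ExtAt.val_mem hQ hR hle hψ hag)
  have hR' : Inn Q ≤ R' := (inn_le_map_conj hR g).trans hle
  refine ⟨μ, hμ, fun x hx => ?_⟩
  rw [hμx]
  exact (congrArg ψ' (Subtype.ext (hag x hx))).trans (hag' (g x) (le_indSub hQ hR' (g x).2))

theorem ExtAt.inv [Finite V] (hQ : Q ≤ V) (hQc : centralizerIn V Q ≤ Q)
    {R R' : Subgroup (MulAut Q)} (hR : Inn Q ≤ R) (hRV : R ≤ autInducedBy V Q) {g : MulAut Q}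
    (hmap : R.map (MulAut.conj g).toMonoidHom = R') (hg : ExtAt W Q R g) :
    ExtAt W Q R' g⁻¹ := by
  obtain ⟨ψ, hψ, hag⟩ := hg
  have hQR := le_indSub hQ hR
  have hsub : indSub V R' ≤ ψ.range := by
    intro z hz
    obtain ⟨hzV, hzn, hzR⟩ := mem_indSub.1 hz
    rw [← hmap] at hzR
    obtain ⟨r, hr, hrz⟩ := hzR
    obtain ⟨y, hyn, hyV, rfl⟩ := mem_autInducedBy_normalizer.1 (hRV hr)
    set y' : indSub V R := ⟨y, mem_indSub.2 ⟨hyV, hyn, hr⟩⟩ with hy'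
    have hc : (ψ y')⁻¹ * z ∈ centralizerIn V Q := by
      refine ⟨V.mul_mem (V.inv_mem (Fusion.val_mem hψ y')) hzV, fun x hx => ?_⟩
      obtain ⟨w, hw⟩ := g.surjective ⟨x, hx⟩
      have h1 : (g (conjAut Q y hyn (g⁻¹ (g w))) : Ω) = z * (g w : Ω) * z⁻¹ :=
        congrArg (fun a : MulAut Q => (a (g w) : Ω)) hrz
      rw [MulAut.inv_apply_self, hw,
        ← hag (conjAut Q y hyn w) (hQR (SetLike.coe_mem _))] at h1
      have h2 : ψ ⟨(conjAut Q y hyn w : Ω), hQR (SetLike.coe_mem _)⟩ =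
          ψ y' * x * (ψ y')⁻¹ := by
        have h3 : ψ ⟨(w : Ω), hQR w.2⟩ = x := (hag w _).trans (congrArg Subtype.val hw)
        rw [← h3, ← map_inv, ← map_mul, ← map_mul]
        rfl
      rw [h2] at h1
      calc x * ((ψ y')⁻¹ * z) = (ψ y')⁻¹ * (ψ y' * x * (ψ y')⁻¹) * z := by group
        _ = (ψ y')⁻¹ * (z * x * z⁻¹) * z := by rw [h1]
        _ = (ψ y')⁻¹ * z * x := by group
    have hcr : (ψ y')⁻¹ * z ∈ ψ.range := by
      obtain ⟨w, hw⟩ := g.surjective ⟨_, hQc hc⟩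
      exact ⟨⟨w, hQR w.2⟩, (hag w _).trans (congrArg Subtype.val hw)⟩
    have h := ψ.range.mul_mem ⟨y', rfl⟩ hcr
    rwa [mul_inv_cancel_left] at h
  obtain ⟨ν, hν, -, hνx, -⟩ := exists_inverse hψ rfl
  refine ⟨_, restrict_mem hν hsub, fun x hx => ?_⟩
  obtain ⟨w, rfl⟩ := g.surjective x
  show ν ⟨(g w : Ω), hsub hx⟩ = _
  rw [MulAut.inv_apply_self]
  have h := hνx ⟨(w : Ω), hQR w.2⟩ ⟨_, rfl⟩
  exact (congrArg ν (Subtype.ext (hag w _).symm)).trans h

theorem ExtAt.restrict {R R' : Subgroup (MulAut Q)} (h : R ≤ R') {g : MulAut Q}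
    (hg : ExtAt W Q R' g) : ExtAt W Q R g := by
  obtain ⟨ψ, hψ, hag⟩ := hg
  have hle : indSub V R ≤ indSub V R' := fun y hy =>
    let ⟨h1, h2, h3⟩ := mem_indSub.1 hy
    mem_indSub.2 ⟨h1, h2, h h3⟩
  exact ⟨_, restrict_mem hψ hle, fun x hx => hag x (hle hx)⟩

end Ext

section Normal

variable [Fact p.Prime] [Finite S]

/-- An element of order prime to `p` of `baseAut` normalizing `R` extends. -/
theorem extAt_of_coprime (hS : IsPGroup p S) (h₁ : E₁.IsNormalIn F p) (h₂ : E₂.IsNormalIn F p)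
    {Q : Subgroup Ω} (hQc : TCentric F (T₁ ⊓ T₂) Q) (hQ : F.IsFullyNormalized Q)
    {R : Subgroup (MulAut Q)} (hR : Inn Q ≤ R) (hRV : R ≤ autInducedBy (T₁ ⊓ T₂) Q)
    {n : MulAut Q} (hn : n ∈ baseAut E₁ E₂ p Q) (hnR : R.map (MulAut.conj n).toMonoidHom ≤ R)
    (hco : (orderOf n).Coprime p) :
    ExtAt (wedgeSystem F E₁ E₂ p) Q R n := by
  classical
  have hF := h₁.1.2.1
  have hVc := stronglyClosed_wedge h₁ h₂
  set V := T₁ ⊓ T₂ with hV
  set M := indSub V R with hM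
  have hQM : Q ≤ M := le_indSub hQc.1 hR
  have hMN : M ≤ normalizerIn V Q := indSub_le_normalizerIn V R
  have hMV : M ≤ V := hMN.trans inf_le_left
  haveI : Finite M := finite_of_le (hMV.trans hVc.1)
  haveI := finite_mulAut (S := S) (hMV.trans hVc.1)
  have hnX := baseAut_le hQc.1 hn
  -- an extension in each system
  have hext : ∀ {T' : Subgroup Ω} (E : FusionSystem T'), E.IsNormalIn F p → V ≤ T' →
      n ∈ E.autGroup Q → ∃ γ ∈ E.autGroup M, γ ∈ stabAut F M Q ∧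
        ∀ (x : M) (hx : (x : Ω) ∈ Q), (γ x : Ω) = n ⟨x, hx⟩ := by
    intro T' E hE hVT hnE
    have hT'S := hE.1.2.2.2.1.1
    haveI : Finite T' := finite_of_le hT'S
    have hQT' := hQc.1.trans hVT
    have hfn := isFullyNormalized_subsystem hS hF hE.1.2.2.1 hE.1.2.2.2.1 hQT' hQ
    obtain ⟨ψ, hψ, hag⟩ := (isReceptive_of_isFullyNormalized (hS.to_le hT'S) hE.1.1 hfn).2 Q
      (autHom n) (autGroup_hom_mem hQT' hnE) (range_autHom n)
    have hle : M ≤ extender T' Q (autHom n) := fun g hg => by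
      obtain ⟨hgV, hgn, hgR⟩ := mem_indSub.1 hg
      exact mem_extender_of_conj_mem (hVT hgV) hgn
        (autInducedBy_mono hVT (hRV (hnR ⟨_, hgR, rfl⟩)))
    have hψM := restrict_mem hψ hle
    have hagM : ∀ (x : Q) (hx : (x : Ω) ∈ M), ψ.comp (Subgroup.inclusion hle) ⟨x, hx⟩ = n x :=
      fun x hx => hag x x.2 (hle hx)
    have hval : ∀ y, ψ.comp (Subgroup.inclusion hle) y ∈ M := by
      intro y
      obtain ⟨hyV, hyn, hyR⟩ := mem_indSub.1 y.2
      have key : ∀ x : Q, ((n * conjAut Q y hyn * n⁻¹) x : Ω) =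
          ψ.comp (Subgroup.inclusion hle) y * (x : Ω) * (ψ.comp (Subgroup.inclusion hle) y)⁻¹ := by
        intro x
        obtain ⟨z, rfl⟩ := n.surjective x
        rw [MulAut.mul_apply, MulAut.mul_apply, MulAut.inv_apply_self,
          ← hagM (conjAut Q y hyn z) (hQM (SetLike.coe_mem _)), ← hagM z (hQM z.2), ← map_inv,
          ← map_mul, ← map_mul]
        rfl
      refine mem_indSub.2 ⟨stronglyClosed_map hVc (hE.1.2.2.1 _ hψM) y hyV,
        mem_normalizer_of_aut key, ?_⟩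
      refine Eq.mp (congrArg (· ∈ R) ?_) (hnR ⟨_, hyR, rfl⟩)
      exact MulEquiv.ext fun x => Subtype.ext (key x)
    obtain ⟨γ, hγ, hγx⟩ := exists_aut_of_hom hψM hval
    refine ⟨γ, hγ, ⟨autGroup_mono hE.1.2.2.1 M hγ, mem_stabSub_of_imgSub ?_⟩,
      fun x hx => (hγx x).trans (hagM ⟨x, hx⟩ x.2)⟩
    rw [show autHom γ = ψ.comp (Subgroup.inclusion hle) from MonoidHom.ext hγx,
      imgSub_of_agree hQM (φ := autHom n) fun x hQ hN => hagM ⟨x, hQ⟩ hN, range_autHom]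
  obtain ⟨γ₁, hγ₁, hγ₁s, hγ₁x⟩ := hext E₁ h₁ inf_le_left hnX.1
  obtain ⟨γ₂, hγ₂, hγ₂s, hγ₂x⟩ := hext E₂ h₂ inf_le_right hnX.2
  -- the part of order prime to `p`
  obtain ⟨k, hk⟩ := Transfer.exists_pow_coprime (p := p) γ₁
  obtain ⟨m, hm⟩ := exists_pow_eq_self_of_coprime (Nat.Coprime.pow_right k hco).symm
  set b := (γ₁ ^ p ^ k) ^ m with hb
  have hbE₁ : b ∈ E₁.autGroup M := pow_mem (pow_mem hγ₁ _) _
  have hbs : b ∈ stabAut F M Q := pow_mem (pow_mem hγ₁s _) _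
  have hbco : (orderOf b).Coprime p := Nat.Coprime.coprime_dvd_left (orderOf_pow_dvd m) hk
  have hres : resAut hQM ⟨γ₁, hγ₁s.2⟩ = n :=
    MulEquiv.ext fun x => Subtype.ext (hγ₁x ⟨x, hQM x.2⟩ x.2)
  have hbres : resAut hQM ⟨b, hbs.2⟩ = n := by
    rw [show (⟨b, hbs.2⟩ : stabSub M Q) = (⟨γ₁, hγ₁s.2⟩ ^ p ^ k) ^ m from Subtype.ext rfl,
      map_pow, map_pow, hres, hm]
  have hbx : ∀ (x : M) (hx : (x : Ω) ∈ Q), (b x : Ω) = n ⟨x, hx⟩ := fun x hx =>
    (congrArg (fun a : MulAut Q => (a ⟨x, hx⟩ : Ω)) hbres : _)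
  have hbE₂ : b ∈ E₂.autGroup M := mem_autGroup_of_extension (V := V) hS h₂.1.2.2.2.1.1
    h₂.1.2.2.1 (stronglyInvariant_of_isWeaklyNormalIn hS h₂.1) hQM (hMV.trans inf_le_right) hMV
    (hMN.trans inf_le_right) (hQc.centralizerIn_le hVc.1) hbs hbco hγ₂
    fun x hx => Subtype.ext ((hbx x hx).trans (hγ₂x x hx).symm)
  exact ⟨autHom b, autHom_mem_wedge (hQc.mono hQM hMV) ⟨hbE₁, hbE₂⟩ hbco,
    fun x hx => hbx ⟨x, hx⟩ x.2⟩

/-- The elements of `baseAut` normalizing a subgroup with Sylow normalizer extend. -/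
theorem extAt_of_normalizer (hS : IsPGroup p S) (h₁ : E₁.IsNormalIn F p)
    (h₂ : E₂.IsNormalIn F p) {Q : Subgroup Ω} (hQc : TCentric F (T₁ ⊓ T₂) Q)
    (hQ : F.IsFullyNormalized Q) {R L : Subgroup (MulAut Q)} (hR : Inn Q ≤ R)
    (hRV : R ≤ autInducedBy (T₁ ⊓ T₂) Q) (hLV : L ≤ autInducedBy (T₁ ⊓ T₂) Q)
    (hL : IsSylowIn p L (baseAut E₁ E₂ p Q ⊓ Subgroup.normalizer (R : Set (MulAut Q))))
    {n : MulAut Q}
    (hn : n ∈ baseAut E₁ E₂ p Q ⊓ Subgroup.normalizer (R : Set (MulAut Q))) :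
    ExtAt (wedgeSystem F E₁ E₂ p) Q R n := by
  classical
  have hVc := stronglyClosed_wedge h₁ h₂
  haveI : Finite (T₁ ⊓ T₂ : Subgroup Ω) := finite_of_le hVc.1
  haveI := finite_mulAut (S := S) hQ.1
  set K := baseAut E₁ E₂ p Q ⊓ Subgroup.normalizer (R : Set (MulAut Q)) with hK
  have hQcc := hQc.centralizerIn_le hVc.1
  have hmapR : ∀ {g : MulAut Q}, g ∈ Subgroup.normalizer (R : Set (MulAut Q)) →
      R.map (MulAut.conj g).toMonoidHom = R := by
    intro g hg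
    refine le_antisymm ?_ fun y hy => ⟨g⁻¹ * y * g, ?_, ?_⟩
    · rintro _ ⟨y, hy, rfl⟩
      exact (Subgroup.mem_normalizer_iff.1 hg y).1 hy
    · refine (Subgroup.mem_normalizer_iff.1 hg _).2 ?_
      rwa [show g * (g⁻¹ * y * g) * g⁻¹ = y by group]
    · show g * (g⁻¹ * y * g) * g⁻¹ = y
      group
  let Lx : Subgroup (MulAut Q) :=
    { carrier := {g | g ∈ K ∧ ExtAt (wedgeSystem F E₁ E₂ p) Q R g}
      one_mem' := ⟨one_mem _, _, subtype_mem inf_le_left, fun x hx => rfl⟩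
      mul_mem' := fun {a b} ha hb => ⟨mul_mem ha.1 hb.1,
        hb.2.mul hQc.1 hR (hmapR hb.1.2).le ha.2⟩
      inv_mem' := fun {a} ha => ⟨K.inv_mem ha.1,
        ha.2.inv hQc.1 hQcc hR hRV (hmapR ha.1.2)⟩ }
  suffices h : K ≤ Lx from (h hn).2
  have hco : ∀ g ∈ K, (orderOf g).Coprime p → g ∈ Lx := fun g hg hco =>
    ⟨hg, extAt_of_coprime hS h₁ h₂ hQc hQ hR hRV hg.1 (hmapR hg.2).le hco⟩
  have hsub : L ≤ Lx := by
    intro g hg
    obtain ⟨v, hvn, hv, rfl⟩ := mem_autInducedBy_normalizer.1 (hLV hg)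
    exact ⟨hL.1 hg, _, (wedgeSystem F E₁ E₂ p).conj_mem inf_le_left hv, fun x hx => rfl⟩
  intro x hx
  have h := Transfer.pResidual_sup_sylow hL.toSylow
  have hx' : (⟨x, hx⟩ : K) ∈ pResidual p K ⊔ (hL.toSylow : Subgroup K) := by
    rw [h]; exact Subgroup.mem_top _
  refine (sup_le (Transfer.pResidual_le_iff.2 fun g hg => ?_) ?_ :
    pResidual p K ⊔ (hL.toSylow : Subgroup K) ≤ Lx.subgroupOf K) hx'
  · exact hco g g.2 (by rwa [Subgroup.orderOf_coe])
  · exact fun g hg => hsub hg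

/-- An element of `baseAut` carrying `R` into `Aut_V(Q)` extends. -/
theorem extAt_of_conj_le (hS : IsPGroup p S) (h₁ : E₁.IsNormalIn F p) (h₂ : E₂.IsNormalIn F p)
    {Q : Subgroup Ω} (hQc : TCentric F (T₁ ⊓ T₂) Q) (hQ : F.IsFullyNormalized Q) :
    ∀ (R : Subgroup (MulAut Q)) (a : MulAut Q), Inn Q ≤ R → R ≤ autInducedBy (T₁ ⊓ T₂) Q →
      a ∈ baseAut E₁ E₂ p Q →
      R.map (MulAut.conj a).toMonoidHom ≤ autInducedBy (T₁ ⊓ T₂) Q →
      ExtAt (wedgeSystem F E₁ E₂ p) Q R a := by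
  classical
  have hVc := stronglyClosed_wedge h₁ h₂
  haveI : Finite (T₁ ⊓ T₂ : Subgroup Ω) := finite_of_le hVc.1
  haveI := finite_mulAut (S := S) hQ.1
  set Pv := autInducedBy (T₁ ⊓ T₂) Q with hPv
  set H := baseAut E₁ E₂ p Q with hH
  have hsyl : IsSylowIn p Pv H := isSylowIn_baseAut hS h₁ h₂ hQc.1 hQ
  have hQcc := hQc.centralizerIn_le hVc.1
  suffices key : ∀ m (R : Subgroup (MulAut Q)) (a : MulAut Q), Nat.card Pv - Nat.card R ≤ m →
      Inn Q ≤ R → R ≤ Pv → a ∈ H → R.map (MulAut.conj a).toMonoidHom ≤ Pv →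
      ExtAt (wedgeSystem F E₁ E₂ p) Q R a from fun R a => key _ R a le_rfl
  intro m
  induction m using Nat.strong_induction_on with
  | _ m ih =>
    intro R a hm hR hRV ha hle
    by_cases hRP : R = Pv
    · subst hRP
      have heq := Subgroup.eq_of_le_of_card_ge hle
        (Subgroup.card_map_of_injective (MulEquiv.injective _)).ge
      have hN : a ∈ H ⊓ Subgroup.normalizer (Pv : Set (MulAut Q)) := by
        refine ⟨ha, Subgroup.mem_normalizer_iff.2 fun y => ⟨fun hy => heq.le ⟨y, hy, rfl⟩,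
          fun hy => ?_⟩⟩
        obtain ⟨z, hz, hzy⟩ := heq.ge hy
        have e : z = y := (MulAut.conj a).injective hzy
        exact e ▸ hz
      exact extAt_of_normalizer hS h₁ h₂ hQc hQ hR le_rfl le_rfl
        (hsyl.of_le (le_inf hsyl.1 Subgroup.le_normalizer) inf_le_left) hN
    -- a conjugate whose normalizer has its Sylow subgroup in `Pv`
    obtain ⟨L₀, hL₀⟩ := exists_isSylowIn (p := p) (H ⊓ Subgroup.normalizer (R : Set (MulAut Q)))
    obtain ⟨k, hk, hkle⟩ := hsyl.exists_conj_le hL₀.2.1 (hL₀.1.trans inf_le_left)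
    have hRL : R ≤ L₀ := by
      obtain ⟨n, hn, hnle⟩ := hL₀.exists_conj_le ((isPGroup_autInducedBy
        (hS.to_le hVc.1)).to_le hRV) (le_inf (hRV.trans hsyl.1) Subgroup.le_normalizer)
      intro r hr
      have hr' : n⁻¹ * r * n ∈ R := by
        have h := (Subgroup.mem_normalizer_iff.1 (Subgroup.inv_mem _ hn.2) r).1 hr
        simpa using h
      have h := hnle ⟨_, hr', rfl⟩
      simpa [mul_assoc] using h
    set R₀ := R.map (MulAut.conj k).toMonoidHom with hR₀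
    have hR₀V : R₀ ≤ Pv := (Subgroup.map_mono hRL).trans hkle
    set L := L₀.map (MulAut.conj k).toMonoidHom with hL
    have hLsyl : IsSylowIn p L (H ⊓ Subgroup.normalizer (R₀ : Set (MulAut Q))) := by
      have h := hL₀.map (MulAut.conj k).toMonoidHom
      refine Eq.mp (congrArg (IsSylowIn p L) ?_) h
      ext y
      constructor
      · rintro ⟨z, hz, rfl⟩
        refine ⟨Subgroup.mul_mem _ (Subgroup.mul_mem _ hk hz.1) (Subgroup.inv_mem _ hk), ?_⟩
        exact Subgroup.le_normalizer_map _ ⟨z, hz.2, rfl⟩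
      · rintro ⟨hy1, hy2⟩
        refine ⟨k⁻¹ * y * k, ⟨Subgroup.mul_mem _ (Subgroup.mul_mem _ (Subgroup.inv_mem _ hk) hy1) hk,
          ?_⟩, by show k * (k⁻¹ * y * k) * k⁻¹ = y; group⟩
        have h := Subgroup.le_normalizer_map (MulAut.conj k⁻¹).toMonoidHom ⟨y, hy2, rfl⟩
        have e : R₀.map (MulAut.conj k⁻¹).toMonoidHom = R := by
          rw [hR₀, Subgroup.map_map]
          refine Eq.trans ?_ (Subgroup.map_id R)
          congr 1
          refine MonoidHom.ext fun x => ?_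
          simp [mul_assoc]
        rw [e] at h
        show k⁻¹ * y * k ∈ _
        simpa using h
    -- move a conjugate of `R` to `R₀` by an extendable element
    have hmove : ∀ (R' : Subgroup (MulAut Q)) (c : MulAut Q), Inn Q ≤ R' → R' ≤ Pv → c ∈ H →
        R'.map (MulAut.conj c).toMonoidHom = R₀ → Nat.card R' = Nat.card R →
        ∃ g ∈ H, R'.map (MulAut.conj g).toMonoidHom = R₀ ∧
          ExtAt (wedgeSystem F E₁ E₂ p) Q R' g := by
      intro R' c hR' hR'V hc hcmap hcard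
      set M := Pv ⊓ Subgroup.normalizer (R' : Set (MulAut Q)) with hM
      have hMle : M.map (MulAut.conj c).toMonoidHom ≤
          H ⊓ Subgroup.normalizer (R₀ : Set (MulAut Q)) := by
        rintro _ ⟨z, hz, rfl⟩
        refine ⟨Subgroup.mul_mem _ (Subgroup.mul_mem _ hc (hsyl.1 hz.1)) (Subgroup.inv_mem _ hc),
          ?_⟩
        rw [← hcmap]
        exact Subgroup.le_normalizer_map _ ⟨z, hz.2, rfl⟩
      obtain ⟨n, hn, hnle⟩ := hLsyl.exists_conj_le ((hsyl.2.1.to_le inf_le_left).map _) hMle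
      have hmapn : R₀.map (MulAut.conj n).toMonoidHom = R₀ := by
        haveI : Finite R₀ := inferInstance
        refine Subgroup.eq_of_le_of_card_ge ?_
          (Subgroup.card_map_of_injective (MulEquiv.injective _)).ge
        rintro _ ⟨z, hz, rfl⟩
        exact (Subgroup.mem_normalizer_iff.1 hn.2 z).1 hz
      have hgmap : R'.map (MulAut.conj (n * c)).toMonoidHom = R₀ := by
        rw [← hmapn, ← hcmap, Subgroup.map_map]
        congr 1
      refine ⟨n * c, Subgroup.mul_mem _ hn.1 hc, hgmap, ?_⟩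
      have hR'M : R' ≤ M := le_inf hR'V Subgroup.le_normalizer
      have hgM : M.map (MulAut.conj (n * c)).toMonoidHom ≤ Pv := by
        rintro _ ⟨z, hz, rfl⟩
        refine hkle (hnle ⟨_, ⟨z, hz, rfl⟩, ?_⟩)
        show n * (c * z * c⁻¹) * n⁻¹ = n * c * z * (n * c)⁻¹
        simp [mul_assoc]
      have hne : R' ≠ M := by
        intro e
        have hR'P : R' ≠ Pv := fun e' => hRP (by
          refine Subgroup.eq_of_le_of_card_ge hRV ?_
          rw [← hcard, e'])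
        have hlt := Fusion87.card_lt_normalizerIn hsyl.2.1 hR'V hR'P
        exact hlt.ne (congrArg (fun K : Subgroup (MulAut Q) => Nat.card K) e)
      have hlt : Nat.card R < Nat.card M := by
        rw [← hcard]
        exact lt_of_le_of_ne (Subgroup.card_le_of_le hR'M)
          fun e => hne (Subgroup.eq_of_le_of_card_ge hR'M e.ge)
      have hMP : Nat.card M ≤ Nat.card Pv := Subgroup.card_le_of_le inf_le_left
      exact (ih _ (by omega) M (n * c) le_rfl (hR'.trans hR'M) inf_le_left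
        (Subgroup.mul_mem _ hn.1 hc) hgM).restrict hR'M
    obtain ⟨g, hg, hgmap, hgext⟩ := hmove R k hR hRV hk rfl rfl
    have hR' : Inn Q ≤ R.map (MulAut.conj a).toMonoidHom := inn_le_map_conj hR a
    obtain ⟨g', hg', hg'map, hg'ext⟩ := hmove (R.map (MulAut.conj a).toMonoidHom) (k * a⁻¹)
      hR' hle (Subgroup.mul_mem _ hk (Subgroup.inv_mem _ ha)) (by
        rw [hR₀, Subgroup.map_map]
        congr 1
        refine MonoidHom.ext fun x => ?_
        simp [mul_assoc]) (Subgroup.card_map_of_injective (MulEquiv.injective _))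
    have hR₀i : Inn Q ≤ R₀ := inn_le_map_conj hR k
    have hn : g' * a * g⁻¹ ∈ H ⊓ Subgroup.normalizer (R₀ : Set (MulAut Q)) := by
      have hmn : R₀.map (MulAut.conj (g' * a * g⁻¹)).toMonoidHom = R₀ := by
        conv_lhs => rw [← hgmap]
        rw [Subgroup.map_map, ← hg'map, Subgroup.map_map]
        congr 1
        refine MonoidHom.ext fun x => ?_
        simp [mul_assoc]
      refine ⟨Subgroup.mul_mem _ (Subgroup.mul_mem _ hg' ha) (Subgroup.inv_mem _ hg),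
        Subgroup.mem_normalizer_iff.2 fun y => ⟨fun hy => hmn.le ⟨y, hy, rfl⟩, fun hy => ?_⟩⟩
      obtain ⟨z, hz, hzy⟩ := hmn.ge hy
      have e : z = y := (MulAut.conj _).injective hzy
      exact e ▸ hz
    have hnext := extAt_of_normalizer hS h₁ h₂ hQc hQ hR₀i hR₀V hkle hLsyl hn
    have h1 := hgext.mul hQc.1 hR hgmap.le hnext
    have hinv := hg'ext.inv hQc.1 hQcc hR' hle hg'map
    have h2 := h1.mul hQc.1 hR (R' := R₀) (by
      rintro _ ⟨z, hz, rfl⟩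
      have h3 := (Subgroup.mem_normalizer_iff.1 hn.2 _).1 (hgmap.le ⟨z, hz, rfl⟩)
      show (g' * a * g⁻¹ * g) * z * (g' * a * g⁻¹ * g)⁻¹ ∈ R₀
      simpa [mul_assoc] using h3) hinv
    simpa [mul_assoc] using h2

theorem inn_le_autInducedBy_of_le {Q M : Subgroup Ω} (h : Q ≤ M) : Inn Q ≤ autInducedBy M Q :=
  (inn_eq_autInducedBy Q).le.trans (autInducedBy_mono h)

/-- A fully normalized centric subgroup is fully automized and receptive in the wedge. -/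
theorem automized_receptive_wedge (hS : IsPGroup p S) (h₁ : E₁.IsNormalIn F p)
    (h₂ : E₂.IsNormalIn F p) {Q : Subgroup Ω} (hQc : TCentric F (T₁ ⊓ T₂) Q)
    (hQne : Q ≠ T₁ ⊓ T₂) (hQ : F.IsFullyNormalized Q)
    (habove : SatAbove (wedgeSystem F E₁ E₂ p) p Q) :
    (wedgeSystem F E₁ E₂ p).IsFullyAutomized p Q ∧ (wedgeSystem F E₁ E₂ p).IsReceptive Q := by
  classical
  have hVc := stronglyClosed_wedge h₁ h₂
  haveI : Finite (T₁ ⊓ T₂ : Subgroup Ω) := finite_of_le hVc.1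
  have hQn : (wedgeSystem F E₁ E₂ p).IsFullyNormalized Q :=
    isFullyNormalized_subsystem hS h₁.1.2.1 (wedgeSystem_le h₁) hVc hQc.1 hQ
  have hsink := fun A (h : (wedgeSystem F E₁ E₂ p).IsConj Q A) =>
    toSink_wedge hS h₁ h₂ hQne hQn habove h
  have haut := autGroup_wedge_eq hS h₁ h₂ hQc hQne hQ habove
  refine ⟨isFullyAutomized_iff.2 ⟨hQc.1, haut ▸ isSylowIn_baseAut hS h₁ h₂ hQc.1 hQ⟩, hQc.1,
    fun A φ hφ hr => ?_⟩
  set W := wedgeSystem F E₁ E₂ p with hW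
  have hA : W.IsConj Q A := isConj_symm ⟨φ, hφ, hr⟩
  obtain ⟨χ, hχ, hχQ⟩ := hsink A hA
  have hAN : A ≤ normalizerIn (T₁ ⊓ T₂) A := le_normalizerIn (src_le hφ)
  haveI : Finite Q := finite_of_le hQ.1
  obtain ⟨τ, hτ, hτr, hτx, -⟩ := exists_inverse (restrict_mem hχ hAN)
    ((range_restrict χ hAN).trans hχQ)
  obtain ⟨c, hc, hcx⟩ := exists_comp hτ hφ fun y => hτr.le ⟨y, rfl⟩
  obtain ⟨a, ha, hax⟩ := exists_aut_of_hom hc fun y => by
    rw [hcx]
    exact hr.le ⟨_, rfl⟩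
  have hax' : ∀ (x : A) (h : χ ⟨x, hAN x.2⟩ ∈ Q), (a ⟨_, h⟩ : Ω) = φ x := by
    intro x h
    rw [hax, hcx]
    exact congrArg φ (Subtype.ext (hτx x h))
  have hext : extender (T₁ ⊓ T₂) A φ ≤ normalizerIn (T₁ ⊓ T₂) A := extender_le_normalizerIn A φ
  set χe := χ.comp (Subgroup.inclusion hext) with hχe
  have hχem : χe ∈ W.Hom _ := restrict_mem hχ hext
  set M := χe.range with hM
  have hQM : Q ≤ M := by
    intro y hy
    obtain ⟨z, hz, rfl⟩ := mem_imgSub.1 (hχQ.ge hy)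
    exact ⟨⟨z, le_extender hφ hz⟩, rfl⟩
  have hMV : M ≤ T₁ ⊓ T₂ := range_le hχem
  have hMN : ∀ g ∈ M, g ∈ Subgroup.normalizer (Q : Set Ω) := by
    rintro _ ⟨z, rfl⟩
    have h := apply_mem_normalizerIn hχ (Subgroup.inclusion hext z) (hext z.2).2 (P := A)
    rw [hχQ] at h
    exact h.2
  have hle : (autInducedBy M Q).map (MulAut.conj a).toMonoidHom ≤
      autInducedBy (T₁ ⊓ T₂) Q := by
    rintro _ ⟨r, hr', rfl⟩
    obtain ⟨g, hg, hgx⟩ := mem_autInducedBy.1 hr'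
    obtain ⟨z, rfl⟩ := hg
    obtain ⟨-, hzn, h, hhV, hh⟩ := mem_extender.1 z.2
    refine mem_autInducedBy.2 ⟨h, hhV, fun y => ?_⟩
    obtain ⟨x, hx⟩ := hr.ge y.2
    have hxQ : χ ⟨x, hAN x.2⟩ ∈ Q := hχQ.le (apply_mem_imgSub χ _ x.2)
    have hy : a ⟨_, hxQ⟩ = y := Subtype.ext ((hax' x hxQ).trans hx)
    have hzx : (z : Ω) * (x : Ω) * (z : Ω)⁻¹ ∈ A := (Subgroup.mem_normalizer_iff.1 hzn x).1 x.2
    show (a (r (a⁻¹ y)) : Ω) = _
    rw [← hy, MulAut.inv_apply_self, hax' x hxQ, ← hh x hzx]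
    have h2 : χ ⟨_, hAN hzx⟩ ∈ Q := hχQ.le (apply_mem_imgSub χ _ hzx)
    refine Eq.trans (congrArg (fun w : Q => (a w : Ω)) (Subtype.ext ?_)) (hax' ⟨_, hzx⟩ h2)
    rw [hgx]
    show χ (Subgroup.inclusion hext z) * χ ⟨x, hAN x.2⟩ * (χ (Subgroup.inclusion hext z))⁻¹ = _
    rw [← map_inv, ← map_mul, ← map_mul]
    rfl
  obtain ⟨ψ, hψ, hag⟩ := extAt_of_conj_le hS h₁ h₂ hQc hQ (autInducedBy M Q) a
    (inn_le_autInducedBy_of_le hQM) (autInducedBy_mono hMV) (haut ▸ ha) hle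
  have hMi : M ≤ indSub (T₁ ⊓ T₂) (autInducedBy M Q) := fun g hg =>
    mem_indSub.2 ⟨hMV hg, hMN g hg, mem_autInducedBy.2 ⟨g, hg, fun _ => rfl⟩⟩
  obtain ⟨μ, hμ, hμx⟩ := exists_comp hχem hψ fun y => hMi ⟨y, rfl⟩
  refine ⟨μ, hμ, fun x hx hN => ?_⟩
  rw [hμx]
  have hxQ : χ ⟨x, hAN hx⟩ ∈ Q := hχQ.le (apply_mem_imgSub χ _ hx)
  exact (hag ⟨_, hxQ⟩ _).trans (hax' ⟨x, hx⟩ hxQ)

/-- The whole of `T₁ ∩ T₂` is fully automized and receptive in the wedge. -/
theorem automized_receptive_wedge_top (hS : IsPGroup p S) (h₁ : E₁.IsNormalIn F p)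
    (h₂ : E₂.IsNormalIn F p) :
    (wedgeSystem F E₁ E₂ p).IsFullyAutomized p (T₁ ⊓ T₂) ∧
      (wedgeSystem F E₁ E₂ p).IsReceptive (T₁ ⊓ T₂) := by
  classical
  have hVc := stronglyClosed_wedge h₁ h₂
  set V := T₁ ⊓ T₂ with hV
  set W := wedgeSystem F E₁ E₂ p with hW
  haveI : Finite V := finite_of_le hVc.1
  have hVfn : F.IsFullyNormalized V := by
    refine ⟨hVc.1, fun R hR => ?_⟩
    obtain ⟨φ, hφ, rfl⟩ := hR
    rw [range_eq_self hφ (hVc.2 V le_rfl φ hφ)]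
  let D : FusionSystem V :=
    { Hom := fun U => {φ | φ ∈ W.Hom U ∧ (U = V → ∃ a ∈ baseAut E₁ E₂ p V,
        ∀ (x : U) (y : V), (x : Ω) = y → φ x = (a y : Ω))}
      le_of_mem := fun h => W.le_of_mem h.1
      injective_of_mem := fun h => W.injective_of_mem h.1
      conj_mem := fun {U g} hU hg => ⟨W.conj_mem hU hg, fun _ =>
        ⟨conjAut V g (Subgroup.le_normalizer hg),
          Subgroup.mem_sup_left (mem_autInducedBy.2 ⟨g, hg, fun _ => rfl⟩), fun x y hxy => by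
            show g * (x : Ω) * g⁻¹ = g * (y : Ω) * g⁻¹
            rw [hxy]⟩⟩
      comp_mem := fun {U U' φ ψ} hφ hψ h => ⟨W.comp_mem hφ.1 hψ.1 h, fun e => by
        obtain ⟨a, ha, hax⟩ := hφ.2 e
        have e' : U' = V := by
          refine le_antisymm (src_le hψ.1) fun v hv => ?_
          obtain ⟨w, hw⟩ := a.surjective ⟨v, hv⟩
          have h1 := h ⟨w, e.ge w.2⟩
          rw [hax _ w rfl, hw] at h1
          exact h1
        obtain ⟨c, hc, hcx⟩ := hψ.2 e'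
        exact ⟨c * a, Subgroup.mul_mem _ hc ha, fun x y hxy => hcx _ (a y) (hax x y hxy)⟩⟩
      inv_mem := fun {U φ} hφ => ⟨_, ⟨rangeInv_mem hφ.1, fun e => by
        have hU : U = V := by
          refine Subgroup.eq_of_le_of_card_ge (src_le hφ.1) ?_
          rw [← card_range hφ.1, e]
        obtain ⟨a, ha, hax⟩ := hφ.2 hU
        refine ⟨a⁻¹, Subgroup.inv_mem _ ha, ?_⟩
        rintro ⟨_, z, rfl⟩ y hxy
        refine (rangeInv_apply φ _ z _).trans ?_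
        have h1 : y = a ⟨z, hU.le z.2⟩ := Subtype.ext (hxy.symm.trans (hax z ⟨z, hU.le z.2⟩ rfl))
        rw [h1, MulAut.inv_apply_self]⟩,
        fun x => rangeInv_apply _ _ x _⟩ }
  have hgood : WedgeGood F E₁ E₂ p D := fun U hU b hb hco => by
    refine ⟨autHom_mem_wedge hU hb hco, fun e => ?_⟩
    subst e
    exact ⟨b, Subgroup.mem_sup_right (mem_residualAut_of_coprime hb hco), fun x y hxy => by
      rw [show x = y from Subtype.ext hxy]
      rfl⟩
  have haut : W.autGroup V = baseAut E₁ E₂ p V := by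
    refine le_antisymm (fun b hb => ?_)
      (baseAut_le_autGroup ⟨le_rfl, fun φ hφ hr => ?_⟩)
    · obtain ⟨a, ha, hax⟩ := ((autGroup_hom_mem le_rfl hb).2 D hgood).2 rfl
      have e : b = a := MulEquiv.ext fun x => Subtype.ext (hax x x rfl)
      exact e ▸ ha
    · rw [range_eq_self hφ (fun x => hr ⟨x, rfl⟩)]
      exact inf_le_left
  refine ⟨isFullyAutomized_iff.2 ⟨le_rfl, haut ▸ isSylowIn_baseAut hS h₁ h₂ le_rfl hVfn⟩, le_rfl,
    fun A φ hφ hr => ?_⟩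
  have hA : A = V := by
    refine Subgroup.eq_of_le_of_card_ge (src_le hφ) ?_
    rw [← card_range hφ, hr]
  have hext : extender V A φ ≤ A :=
    (extender_le_normalizerIn A φ).trans (inf_le_left.trans hA.ge)
  exact ⟨_, restrict_mem hφ hext, fun x hx hN => rfl⟩

/-- The wedge is saturated. -/
theorem isSaturated_wedge (hS : IsPGroup p S) (h₁ : E₁.IsNormalIn F p)
    (h₂ : E₂.IsNormalIn F p) : (wedgeSystem F E₁ E₂ p).IsSaturated p := by
  classical
  have hF := h₁.1.2.1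
  have hinv := isInvariantIn_wedge hS h₁ h₂
  have hVc := stronglyClosed_wedge h₁ h₂
  have hact := actInvariant_wedge hS h₁ h₂
  set W := wedgeSystem F E₁ E₂ p with hW
  haveI : Finite (T₁ ⊓ T₂ : Subgroup Ω) := finite_of_le hVc.1
  have hVp : IsPGroup p (T₁ ⊓ T₂ : Subgroup Ω) := hS.to_le hVc.1
  suffices key : ∀ n (P : Subgroup Ω), Nat.card (T₁ ⊓ T₂ : Subgroup Ω) - Nat.card P ≤ n →
      P ≤ T₁ ⊓ T₂ → ∃ Q, W.IsConj P Q ∧ W.IsFullyAutomized p Q ∧ W.IsReceptive Q from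
    fun P hP => key _ P le_rfl hP
  intro n
  induction n using Nat.strong_induction_on with
  | _ n ih =>
    intro P hn hP
    by_cases hc : TCentric F (T₁ ⊓ T₂) P
    · obtain ⟨Q, ⟨φ, hφ, hr⟩, hQ⟩ := exists_isFullyNormalized_conj F (hP.trans hVc.1)
      obtain ⟨a, ha, φ₀, hφ₀, hx⟩ := hinv.2.2.2 P hP φ hφ
      have hQV : Q ≤ T₁ ⊓ T₂ := hr ▸ fun y hy => by
        obtain ⟨x, rfl⟩ := hy
        exact hVc.2 P hP φ hφ x
      have hQc : TCentric F (T₁ ⊓ T₂) Q := hr ▸ hc.range hφ fun x => hVc.2 P hP φ hφ x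
      have hcard : Nat.card Q = Nat.card P := isConj_card ⟨φ, hφ, hr⟩
      have hQprop : W.IsFullyAutomized p Q ∧ W.IsReceptive Q := by
        by_cases hne : Q = T₁ ⊓ T₂
        · rw [hne]
          exact automized_receptive_wedge_top hS h₁ h₂
        · refine automized_receptive_wedge hS h₁ h₂ hQc hne hQ fun R hR hlt => ?_
          have := Subgroup.card_le_of_le hR
          exact ih _ (by omega) R le_rfl hR
      have himg : imgSub (autHom a⁻¹) Q = φ₀.range := by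
        have hval : ∀ x : P, (a⁻¹ ⟨φ x, hVc.2 P hP φ hφ x⟩ : Ω) = φ₀ x := fun x => by
          rw [show (⟨φ x, hVc.2 P hP φ hφ x⟩ : (T₁ ⊓ T₂ : Subgroup Ω)) =
            a ⟨φ₀ x, val_mem hφ₀ x⟩ from Subtype.ext (hx x _), MulAut.inv_apply_self]
        ext y
        rw [mem_imgSub]
        constructor
        · rintro ⟨z, hz, rfl⟩
          obtain ⟨x, hxz⟩ := hr.ge hz
          refine ⟨x, (hval x).symm.trans ?_⟩
          exact congrArg (fun w : (T₁ ⊓ T₂ : Subgroup Ω) => (a⁻¹ w : Ω)) (Subtype.ext hxz)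
        · rintro ⟨x, rfl⟩
          exact ⟨⟨φ x, hVc.2 P hP φ hφ x⟩, hr.le ⟨x, rfl⟩, hval x⟩
      have h := automized_receptive_act hVp hact (Subgroup.inv_mem _ ha) hQprop.1 hQprop.2
      rw [himg] at h
      exact ⟨_, isConj_range hφ₀, h.1, h.2⟩
    · have hgen : ∀ D : FusionSystem (T₁ ⊓ T₂),
          (∀ U ∈ {U | TCentric F (T₁ ⊓ T₂) U}, W.Hom U ⊆ D.Hom U) → W ≤ D := fun D hD U ψ hψ =>
        hψ.2 D fun Q hQ b hb hco => hD Q hQ (autHom_mem_wedge hQ hb hco)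
      refine exists_automized_receptive hVp (ℋ := {U | TCentric F (T₁ ⊓ T₂) U}) ?_ hgen hP hc
        (fun R hR hlt => ?_) ?_
      · rintro U hU U' ⟨ψ, hψ, rfl⟩
        exact hU.range (wedgeSystem_le h₁ U hψ) (val_mem hψ)
      · have := Subgroup.card_le_of_le hR
        exact ih _ (by omega) R le_rfl hR
      · have hnc : ¬ W.IsCentric P := fun h => hc (tCentric_of_isCentric hinv h)
        obtain ⟨Q, hQ⟩ := not_forall.1 fun h => hnc ⟨hP, h⟩
        obtain ⟨hQc, hQn⟩ := Classical.not_imp.1 hQ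
        obtain ⟨g, hg, hgQ⟩ := SetLike.not_le_iff_exists.1 hQn
        refine ⟨Q, g, hQc, mem_starSub.2 ⟨hg.1, mem_normalizer_of_mem_centralizer hg.2, ?_⟩, hgQ⟩
        have e : conjAut Q g (mem_normalizer_of_mem_centralizer hg.2) = 1 := by
          refine MulEquiv.ext fun x => Subtype.ext ?_
          show g * (x : Ω) * g⁻¹ = x
          rw [← hg.2 x x.2, mul_inv_cancel_right]
        rw [e]
        exact Subgroup.one_mem _

/-- The wedge is weakly normal in the ambient system. -/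
theorem isWeaklyNormalIn_wedge (hS : IsPGroup p S) (h₁ : E₁.IsNormalIn F p)
    (h₂ : E₂.IsNormalIn F p) : (wedgeSystem F E₁ E₂ p).IsWeaklyNormalIn F p :=
  ⟨isSaturated_wedge hS h₁ h₂, h₁.1.2.1, isInvariantIn_wedge hS h₁ h₂⟩

/-- The wedge is weakly normal in each of the two systems. -/
theorem isWeaklyNormalIn_wedge_sub (hS : IsPGroup p S) (h₁ : E₁.IsNormalIn F p)
    (h₂ : E₂.IsNormalIn F p) :
    (wedgeSystem F E₁ E₂ p).IsWeaklyNormalIn E₁ p ∧
      (wedgeSystem F E₁ E₂ p).IsWeaklyNormalIn E₂ p := by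
  have hVc := stronglyClosed_wedge h₁ h₂
  have hstr := stronglyInvariant_wedge hS h₁ h₂
  have main : ∀ {T' : Subgroup Ω} (E : FusionSystem T'), E.IsNormalIn F p → T₁ ⊓ T₂ ≤ T' →
      (wedgeSystem F E₁ E₂ p).IsSubsystemOf E →
      (wedgeSystem F E₁ E₂ p).IsWeaklyNormalIn E p := by
    intro T' E hE hVT hsub
    have hEF := hE.1.2.2.1
    have hT'S := hE.1.2.2.2.1.1
    haveI : Finite T' := finite_of_le hT'S
    refine ⟨isSaturated_wedge hS h₁ h₂, hE.1.1, ?_⟩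
    exact (Cfsg.Agent.S5119.result p (hS.to_le hT'S) E hE.1.1 _ hsub
      (stronglyClosed_of_subsystem hEF hVc hVT)).mpr
      fun P Q hPQ hQV φ hφ hφQ ψ hψ => hstr P Q hPQ hQV φ hφ hφQ ψ (hEF Q hψ)
  exact ⟨main E₁ h₁ inf_le_left wedgeSystem_le_left,
    main E₂ h₂ inf_le_right wedgeSystem_le_right⟩

end Normal

end Cfsg.Agent.Lib.Fusion.Wedge
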